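import Cfsg.Agent.EqLemmas

/-!
# Endomorphisms of a Klein four group under an odd group without fixed points

`W` has order four and exponent two; the odd group `A` acts on it fixing only the identity.

* `fixed_all`: an element of `A` fixing one non-identity element acts trivially.
* `injective_of_invariant`: a non-trivial invariant endomorphism is injective.
* `norm_ne_one`: the `A`-norm of a non-trivial non-injective endomorphism is non-trivial.
-/

set_option autoImplicit false
set_option linter.unusedSectionVars false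

namespace Cfsg.Agent.OddAutTwo

variable {W A : Type*} [CommGroup W] [Finite W] [Group A] [Fintype A]

theorem four_cases (hW : Nat.card W = 4) (hsq : ∀ w : W, w * w = 1) {s w : W} (hs : s ≠ 1) (hw : w ≠ 1)
    (hsw : s ≠ w) (u : W) : u = 1 ∨ u = s ∨ u = w ∨ u = s * w := by
  classical
  haveI := Fintype.ofFinite W
  have h1 : s * w ≠ 1 := fun h => hsw (by rw [← one_mul w, ← hsq s, mul_assoc, h, mul_one])
  have hc : ({1, s, w, s * w} : Finset W).card = 4 := by
    rw [Finset.card_insert_of_notMem, Finset.card_insert_of_notMem, Finset.card_insert_of_notMem,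
      Finset.card_singleton]
    · simp only [Finset.mem_singleton]
      intro h
      exact hs (by simpa using h)
    · simp only [Finset.mem_insert, Finset.mem_singleton, not_or]
      exact ⟨hsw, fun h => hw (by simpa using h)⟩
    · simp only [Finset.mem_insert, Finset.mem_singleton, not_or]
      exact ⟨Ne.symm hs, Ne.symm hw, Ne.symm h1⟩
  have hu : u ∈ ({1, s, w, s * w} : Finset W) := by
    rw [Finset.eq_univ_of_card _ (hc.trans (by rw [← Nat.card_eq_fintype_card, hW]))]
    exact Finset.mem_univ u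
  simpa using hu

variable (hW : Nat.card W = 4) (hsq : ∀ w : W, w * w = 1) (hA : Odd (Nat.card A)) (α : A →* MulAut W)
  (hfree : ∀ s, (∀ φ, α φ s = s) → s = 1)

include hA in
theorem fixed_of_sq {φ : A} {w : W} (h : α φ (α φ w) = w) : α φ w = w := by
  obtain ⟨k, hk⟩ := hA
  have h2 : ∀ n : ℕ, α (φ ^ (2 * n)) w = w := by
    intro n
    induction n with
    | zero => simp
    | succ n ih => rw [Nat.mul_succ, pow_add, map_mul, MulAut.mul_apply, pow_two, map_mul, MulAut.mul_apply, h, ih]
  have h3 : φ ^ (2 * (k + 1)) = φ := by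
    rw [show 2 * (k + 1) = Nat.card A + 1 by omega, pow_succ, pow_card_eq_one', one_mul]
  have h4 := h2 (k + 1)
  rwa [h3] at h4

include hW hsq hA in
theorem fixed_all {φ : A} {s : W} (hs : s ≠ 1) (h : α φ s = s) (w : W) : α φ w = w := by
  by_cases hw : w = 1
  · subst hw; exact map_one _
  by_cases hsw : s = w
  · subst hsw; exact h
  rcases four_cases hW hsq hs hw hsw (α φ w) with e | e | e | e
  · exact absurd ((α φ).injective (e.trans (map_one _).symm)) hw
  · exact absurd ((α φ).injective (h.trans e.symm)) hsw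
  · exact e
  · refine fixed_of_sq hA α ?_
    rw [e, map_mul, h, e, ← mul_assoc, hsq, one_mul]

include hW hsq hA hfree in
theorem eq_top_of_invariant (S : Subgroup W) (hS : ∀ φ, ∀ w ∈ S, α φ w ∈ S) (hne : S ≠ ⊥) : S = ⊤ := by
  obtain ⟨s, hsS, hs⟩ := (Subgroup.bot_or_exists_ne_one S).resolve_left hne
  obtain ⟨φ, hφ⟩ : ∃ φ, α φ s ≠ s := by
    by_contra h
    push Not at h
    exact hs (hfree s h)
  have hne1 : α φ s ≠ 1 := fun h => hs ((α φ).injective (h.trans (map_one _).symm))
  refine Subgroup.eq_top_iff' _ |>.mpr fun u => ?_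
  rcases four_cases hW hsq hs hne1 (Ne.symm hφ) u with e | e | e | e <;> rw [e]
  · exact one_mem _
  · exact hsS
  · exact hS φ s hsS
  · exact mul_mem hsS (hS φ s hsS)

include hW hsq hA hfree in
theorem injective_of_invariant (ν : W →* W) (hν : ∀ φ w, ν (α φ w) = α φ (ν w)) (hne : ν ≠ 1) :
    Function.Injective ν := by
  by_contra h
  rw [← MonoidHom.ker_eq_bot_iff] at h
  have := eq_top_of_invariant hW hsq hA α hfree ν.ker (fun φ w hw => by
    rw [MonoidHom.mem_ker] at hw ⊢
    rw [hν, hw, map_one]) h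
  exact hne (MonoidHom.ext fun w => MonoidHom.mem_ker.mp (this.ge (Subgroup.mem_top w)))

/-- The sum of the `A`-conjugates of an endomorphism. -/
def nrm (μ : W →* W) : W →* W :=
  ∏ φ : A, (α φ).toMonoidHom.comp (μ.comp (α φ⁻¹).toMonoidHom)

theorem nrm_apply (μ : W →* W) (w : W) : nrm α μ w = ∏ φ : A, α φ (μ (α φ⁻¹ w)) := by
  simp [nrm, MonoidHom.finsetProd_apply]

theorem nrm_invariant (μ : W →* W) (ψ : A) (w : W) : nrm α μ (α ψ w) = α ψ (nrm α μ w) := by
  rw [nrm_apply, nrm_apply, map_prod]
  refine (Fintype.prod_equiv (Equiv.mulLeft ψ) _ _ fun φ => ?_).symm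
  simp only [Equiv.coe_mulLeft, mul_inv_rev, map_mul, MulAut.mul_apply]
  congr 3
  rw [map_inv α ψ, MulAut.inv_apply_self]

include hA hsq in
theorem nrm_id_apply (w : W) : nrm α (MonoidHom.id W) w = w := by
  rw [nrm_apply]
  have : ∀ φ : A, α φ ((MonoidHom.id W) (α φ⁻¹ w)) = w := fun φ => by
    show α φ (α φ⁻¹ w) = w
    rw [← MulAut.mul_apply, ← map_mul, mul_inv_cancel, map_one, MulAut.one_apply]
  simp only [this, Finset.prod_const, Finset.card_univ]
  obtain ⟨k, hk⟩ := hA
  rw [← Nat.card_eq_fintype_card, hk, pow_succ, pow_mul, pow_two, hsq, one_pow, one_mul]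

include hW hsq hA hfree in
theorem nrm_ne_one (μ : W →* W) (hne : μ ≠ 1) (hni : ¬ Function.Injective μ) : nrm α μ ≠ 1 := by
  classical
  obtain ⟨k, hk, hk1⟩ : ∃ k, μ k = 1 ∧ k ≠ 1 := by
    by_contra h
    push Not at h
    exact hni ((injective_iff_map_eq_one μ).mpr h)
  obtain ⟨w, hw⟩ : ∃ w, μ w ≠ 1 := by
    by_contra h
    push Not at h
    exact hne (MonoidHom.ext h)
  have hw1 : w ≠ 1 := fun h => hw (h ▸ map_one μ)
  have hkw : k ≠ w := fun h => hw (h ▸ hk)
  set a := μ w with ha
  have hμ : ∀ u, u ≠ 1 → u ≠ k → μ u = a := by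
    intro u hu1 huk
    rcases four_cases hW hsq hk1 hw1 hkw u with e | e | e | e
    · exact absurd e hu1
    · exact absurd e huk
    · rw [e]
    · rw [e, map_mul, hk, one_mul]
  intro hN
  have h0 : (∏ φ : A, α φ (μ (α φ⁻¹ k))) = 1 := by rw [← nrm_apply, hN, MonoidHom.one_apply]
  have hall : (∏ φ : A, α φ a) = 1 := by
    refine hfree _ fun ψ => ?_
    rw [map_prod]
    refine Fintype.prod_equiv (Equiv.mulLeft ψ) _ _ fun φ => ?_
    rw [Equiv.coe_mulLeft, map_mul, MulAut.mul_apply]
  let P : Finset A := Finset.univ.filter fun φ => α φ k = k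
  have hterm : ∀ φ : A, α φ (μ (α φ⁻¹ k)) = if φ ∈ P then 1 else α φ a := by
    intro φ
    simp only [P, Finset.mem_filter, Finset.mem_univ, true_and]
    split_ifs with hφ
    · have : α φ⁻¹ k = k := by
        conv_lhs => rw [← hφ]
        rw [← MulAut.mul_apply, ← map_mul, inv_mul_cancel, map_one, MulAut.one_apply]
      rw [this, hk, map_one]
    · rw [hμ]
      · intro h
        exact hk1 ((α φ⁻¹).injective (h.trans (map_one _).symm))
      · intro h
        refine hφ ?_
        conv_lhs => rw [← h]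
        rw [← MulAut.mul_apply, ← map_mul, mul_inv_cancel, map_one, MulAut.one_apply]
  have hin : ∀ φ ∈ P, α φ a = a := fun φ hφ =>
    fixed_all hW hsq hA α hk1 (Finset.mem_filter.mp hφ).2 a
  have hodd : Odd P.card := by
    let St : Subgroup A :=
      { carrier := {φ | α φ k = k}
        one_mem' := by simp
        mul_mem' := fun {x y} (hx : α x k = k) (hy : α y k = k) => show α (x * y) k = k by
          rw [map_mul, MulAut.mul_apply, hy, hx]
        inv_mem' := fun {x} (hx : α x k = k) => show α x⁻¹ k = k by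
          conv_lhs => rw [← hx]
          rw [← MulAut.mul_apply, ← map_mul, inv_mul_cancel, map_one, MulAut.one_apply] }
    have hc : Nat.card St = P.card := by
      rw [← Fintype.card_subtype, ← Nat.card_eq_fintype_card]
      rfl
    exact hc ▸ hA.of_dvd_nat St.card_subgroup_dvd_card
  have hsplit : (∏ φ : A, α φ a) = (∏ φ ∈ P, α φ a) * ∏ φ : A, α φ (μ (α φ⁻¹ k)) := by
    rw [← Finset.prod_mul_prod_compl P (fun φ => α φ a)]
    congr 1
    rw [Finset.prod_congr rfl fun φ _ => hterm φ,
      ← Finset.prod_mul_prod_compl P (fun φ => if φ ∈ P then 1 else α φ a),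
      Finset.prod_congr rfl (fun φ (hφ : φ ∈ P) => if_pos hφ), Finset.prod_const_one, one_mul]
    exact Finset.prod_congr rfl fun φ hφ => (if_neg (Finset.mem_compl.mp hφ)).symm
  rw [hall, h0, mul_one, Finset.prod_congr rfl hin, Finset.prod_const] at hsplit
  obtain ⟨m, hm⟩ := hodd
  rw [hm, pow_succ, pow_mul, pow_two, hsq, one_pow, one_mul] at hsplit
  exact hw hsplit.symm

end Cfsg.Agent.OddAutTwo
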