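import Cfsg.Agent.EqLemmas
import Cfsg.Agent.Lib.OddAutTwo.KleinEnd
import Cfsg.Agent.Lib.PGroup.Basic
import Cfsg.Agent.Lib.PGroup.Critical
import Cfsg.Agent.Lib.PGroup.NormalAbelian
import Cfsg.Agent.Lib.PGroup.SpecialAut

/-!
# 2-groups generated by the displacements of an odd automorphism group

`X = [X, A]` for an odd group `A` of automorphisms of the finite 2-group `X`, and every normal
elementary abelian subgroup of `X` has order at most four.

* `norm_eq_one`: the `A`-norm of a homomorphism into an abelian group vanishes.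
* `four_le_center`: an invariant normal four group is central.
* `sq_mem_of_free`: if `A` fixes only the identity in the four group `Ω₁(Z(X))`, every square lies there.
-/

set_option autoImplicit false
set_option linter.style.haveILetI false
set_option linter.unusedSectionVars false

open scoped commutatorElement

namespace Cfsg.Agent.OddAutTwo

variable {X : Type*} [Group X] {A : Subgroup (MulAut X)}

/-- The involutions of the centre. -/
def omegaCenter (X : Type*) [Group X] : Subgroup X where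
  carrier := {z | z ∈ Subgroup.center X ∧ z * z = 1}
  one_mem' := ⟨one_mem _, mul_one 1⟩
  mul_mem' := fun {a b} ha hb => ⟨mul_mem ha.1 hb.1, by
    rw [mul_assoc, ← mul_assoc b, Subgroup.mem_center_iff.mp ha.1 b, mul_assoc a b, hb.2, mul_one, ha.2]⟩
  inv_mem' := fun {a} ha => ⟨inv_mem ha.1, by rw [← mul_inv_rev, ha.2, inv_one]⟩

theorem omegaCenter_le : omegaCenter X ≤ Subgroup.center X := fun _ h => h.1

theorem omegaCenter_inv (φ : MulAut X) {x : X} (hx : x ∈ omegaCenter X) : φ x ∈ omegaCenter X :=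
  ⟨(PGroup.aut_mem_iff φ x).mpr hx.1, by rw [← map_mul, hx.2, map_one]⟩

instance omegaCenter_normal : (omegaCenter X).Normal :=
  ⟨fun n hn g => by rwa [Subgroup.mem_center_iff.mp hn.1 g, mul_inv_cancel_right]⟩

/-- The action of `A` on an invariant subgroup. -/
def resAut (A : Subgroup (MulAut X)) (N : Subgroup X) (h : ∀ φ ∈ A, ∀ x ∈ N, φ x ∈ N) : A →* MulAut N where
  toFun φ :=
    { toFun := fun x => ⟨(φ : MulAut X) x, h φ φ.2 x x.2⟩
      invFun := fun x => ⟨(φ : MulAut X).symm x, h _ (inv_mem φ.2) x x.2⟩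
      left_inv := fun x => Subtype.ext ((φ : MulAut X).symm_apply_apply _)
      right_inv := fun x => Subtype.ext ((φ : MulAut X).apply_symm_apply _)
      map_mul' := fun x y => Subtype.ext (map_mul (φ : MulAut X) _ _) }
  map_one' := by ext x; rfl
  map_mul' φ ψ := by ext x; rfl

@[simp] theorem resAut_coe (N : Subgroup X) (h : ∀ φ ∈ A, ∀ x ∈ N, φ x ∈ N) (φ : A) (x : N) :
    ((resAut A N h φ x : N) : X) = (φ : MulAut X) x := rfl

theorem comm_of_sq (N : Subgroup X) (h : ∀ x ∈ N, x * x = 1) {a b : X} (ha : a ∈ N) (hb : b ∈ N) :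
    a * b = b * a := by
  calc a * b = (a * b)⁻¹ := (inv_eq_of_mul_eq_one_right (h _ (mul_mem ha hb))).symm
    _ = b * a := by rw [mul_inv_rev, inv_eq_of_mul_eq_one_right (h a ha), inv_eq_of_mul_eq_one_right (h b hb)]

section

variable [Finite X] (hX : IsPGroup 2 X) (hA : Odd (Nat.card A))
  (hXA : Subgroup.closure {g : X | ∃ x : X, ∃ a ∈ A, g = x⁻¹ * a x} = ⊤)

include hA in
theorem coprime_orderOf {φ : MulAut X} (hφ : φ ∈ A) : Nat.Coprime (orderOf φ) 2 := by
  rw [Nat.coprime_two_right]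
  refine hA.of_dvd_nat ?_
  rw [show orderOf φ = orderOf (⟨φ, hφ⟩ : A) from (Subgroup.orderOf_mk φ hφ).symm]
  exact orderOf_dvd_natCard _

include hXA in
theorem norm_eq_one [Fintype A] {M : Type*} [CommGroup M] (f : X →* M) (x : X) :
    ∏ φ : A, f ((φ : MulAut X) x) = 1 := by
  let P : X →* M := MonoidHom.mk' (fun y => ∏ φ : A, f ((φ : MulAut X) y)) fun a b => by
    simp [Finset.prod_mul_distrib]
  have hinv : ∀ ψ ∈ A, ∀ y, P (ψ y) = P y := fun ψ hψ y =>
    Fintype.prod_equiv (Equiv.mulRight (⟨ψ, hψ⟩ : A)) _ _ fun φ => rfl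
  have hker : Subgroup.closure {g : X | ∃ x : X, ∃ a ∈ A, g = x⁻¹ * a x} ≤ P.ker := by
    rw [Subgroup.closure_le]
    rintro _ ⟨y, a, ha, rfl⟩
    rw [SetLike.mem_coe, MonoidHom.mem_ker, map_mul, map_inv, hinv a ha, inv_mul_cancel]
  exact hker (hXA.ge (Subgroup.mem_top x))

include hA hXA in
theorem no_index_two (M : Subgroup X) (hM : M.index = 2) (hinv : ∀ φ ∈ A, ∀ x ∈ M, φ x ∈ M) : False := by
  have hle : Subgroup.closure {g : X | ∃ x : X, ∃ a ∈ A, g = x⁻¹ * a x} ≤ M := by
    rw [Subgroup.closure_le]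
    rintro _ ⟨y, a, ha, rfl⟩
    rw [SetLike.mem_coe, Subgroup.mul_mem_iff_of_index_two hM, inv_mem_iff]
    exact ⟨fun h => hinv a ha y h, fun h => by simpa using hinv a⁻¹ (inv_mem ha) _ h⟩
  rw [hXA] at hle
  rw [top_le_iff.mp hle, Subgroup.index_top] at hM
  omega

include hX hA hXA in
theorem four_le_center (N : Subgroup X) [N.Normal] (h4 : Nat.card N = 4) (hsq : ∀ x ∈ N, x * x = 1)
    (hinv : ∀ φ ∈ A, ∀ x ∈ N, φ x ∈ N) : N ≤ Subgroup.center X := by
  classical
  haveI : Fact (Nat.Prime 2) := ⟨Nat.prime_two⟩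
  by_contra hnc
  obtain ⟨w, hwN, hwc⟩ := SetLike.not_le_iff_exists.mp hnc
  have hne : N ≠ ⊥ := fun h => by rw [h, Subgroup.card_bot] at h4; omega
  obtain ⟨z, hz, hz1⟩ := (Subgroup.bot_or_exists_ne_one _).resolve_left (PGroup.inf_center_ne_bot hX hne)
  obtain ⟨hzN, hzc⟩ := Subgroup.mem_inf.mp hz
  letI : CommGroup N := { (inferInstance : Group N) with
    mul_comm := fun a b => Subtype.ext (comm_of_sq N hsq a.2 b.2) }
  haveI := Fintype.ofFinite A
  have hsqN : ∀ x : N, x * x = 1 := fun x => Subtype.ext (hsq x x.2)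
  have hzne : (⟨z, hzN⟩ : N) ≠ 1 := fun h => hz1 (congrArg Subtype.val h)
  have hwne : (⟨w, hwN⟩ : N) ≠ 1 := fun h => hwc (by
    rw [show w = 1 from congrArg Subtype.val h]; exact one_mem _)
  have hzw : (⟨z, hzN⟩ : N) ≠ ⟨w, hwN⟩ := fun h => hwc (by
    rw [← show z = w from congrArg Subtype.val h]; exact hzc)
  refine hnc (PGroup.char_le_center_of_fixed hXA fun a ha u hu => ?_)
  have hz' : resAut A N hinv ⟨a, ha⟩ ⟨z, hzN⟩ = ⟨z, hzN⟩ := by
    refine Subtype.ext ?_
    have hazc : a z ∈ Subgroup.center X := (PGroup.aut_mem_iff a z).mpr hzc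
    rcases four_cases h4 hsqN hzne hwne hzw ⟨a z, hinv a ha z hzN⟩ with e | e | e | e
    · exact absurd (a.injective ((congrArg Subtype.val e).trans (map_one a).symm)) hz1
    · exact congrArg Subtype.val e
    · exact absurd (by rw [← show a z = w from congrArg Subtype.val e]; exact hazc) hwc
    · exfalso
      refine hwc ?_
      have e' : a z = z * w := congrArg Subtype.val e
      have := mul_mem (inv_mem hzc) hazc
      rwa [e', inv_mul_cancel_left] at this
  exact congrArg Subtype.val (fixed_all h4 hsqN hA (resAut A N hinv) hzne hz' ⟨u, hu⟩)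

variable (hscn : ¬ ∃ B : Subgroup X, B.Normal ∧ Subgroup.centralizer (B : Set X) = B ∧
      ∃ E : Subgroup X, E ≤ B ∧ Cfsg.IsElementaryAbelian 2 E ∧ Nat.card E = 8)

include hX hscn in
theorem card_le_four (E : Subgroup X) [E.Normal] (hE : ∀ x ∈ E, x * x = 1) : Nat.card E ≤ 4 := by
  haveI : Fact (Nat.Prime 2) := ⟨Nat.prime_two⟩
  by_contra hgt
  push Not at hgt
  obtain ⟨B, hEB, hmax⟩ := Finite.exists_le_maximal (α := Subgroup X)
    (p := fun B => B.Normal ∧ ∀ a ∈ B, ∀ b ∈ B, a * b = b * a) (a := E)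
    ⟨inferInstance, fun a ha b hb => comm_of_sq E hE ha hb⟩
  obtain ⟨hBn, hBab⟩ := hmax.prop
  haveI := hBn
  refine hscn ⟨B, hBn, PGroup.centralizer_eq_of_maximal_normal_abelian hX hBab
    (fun C hC hCab hle => le_antisymm (hmax.2 ⟨hC, hCab⟩ hle) hle), ?_⟩
  obtain ⟨k, hk⟩ := PGroup.exists_subgroup_card_eq_pow hX E
  have hk3 : 3 ≤ k := by
    by_contra h
    rw [hk] at hgt
    exact absurd (Nat.pow_le_pow_right two_pos (show k ≤ 2 by omega)) (by omega)
  obtain ⟨F, hF⟩ := Sylow.exists_subgroup_card_pow_prime (G := E) 2 (n := 3) (hk ▸ pow_dvd_pow 2 hk3)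
  refine ⟨F.map E.subtype, (Subgroup.map_subtype_le F).trans hEB, ⟨⟨⟨fun a b => Subtype.ext ?_⟩⟩, fun a ha => ?_⟩, ?_⟩
  · exact comm_of_sq E hE (Subgroup.map_subtype_le F a.2) (Subgroup.map_subtype_le F b.2)
  · rw [pow_two]; exact hE a (Subgroup.map_subtype_le F ha)
  · rw [Subgroup.card_map_of_injective E.subtype_injective, hF]; norm_num

include hX hscn in
theorem invol_mem {W : Subgroup X} (hWc : W ≤ Subgroup.center X) (hWsq : ∀ x ∈ W, x * x = 1)
    (hW4 : Nat.card W = 4) {t : X} (ht : t * t = 1) (hc : ∀ x : X, ⁅x, t⁆ ∈ W) : t ∈ W := by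
  haveI : Fact (Nat.Prime 2) := ⟨Nat.prime_two⟩
  by_contra htW
  have hcm : ∀ w ∈ W, ∀ y : X, y * w = w * y := fun w hw y => Subgroup.mem_center_iff.mp (hWc hw) y
  let E : Subgroup X :=
    { carrier := {x | x ∈ W ∨ x * t ∈ W}
      one_mem' := Or.inl W.one_mem
      mul_mem' := by
        rintro a b (ha | ha) (hb | hb)
        · exact Or.inl (W.mul_mem ha hb)
        · exact Or.inr (by rw [mul_assoc]; exact W.mul_mem ha hb)
        · exact Or.inr (by rw [mul_assoc, ← hcm b hb t, ← mul_assoc]; exact W.mul_mem ha hb)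
        · refine Or.inl ?_
          have h1 : a * b = a * t * (b * t) := by
            rw [mul_assoc a t, hcm _ hb t, mul_assoc b t t, ht, mul_one]
          rw [h1]; exact W.mul_mem ha hb
      inv_mem' := by
        rintro a (ha | ha)
        · exact Or.inl (W.inv_mem ha)
        · refine Or.inr ?_
          have h2 : t * (a * t) = a * t * t := hcm _ ha t
          rw [mul_assoc a, ht, mul_one] at h2
          have h3 : (a * t) * (a * t) = 1 := hWsq _ ha
          rw [mul_assoc, h2] at h3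
          rw [inv_eq_of_mul_eq_one_right h3]
          exact ha }
  haveI : E.Normal := ⟨fun e he x => by
    rcases he with he | he
    · exact Or.inl (by rwa [hcm e he x, mul_inv_cancel_right])
    · refine Or.inr ?_
      have h1 : x * e * x⁻¹ * t = (x * (e * t) * x⁻¹) * ⁅x, t⁻¹⁆ := by rw [commutatorElement_def]; group
      rw [h1, hcm _ he x, mul_inv_cancel_right, inv_eq_of_mul_eq_one_right ht]
      exact W.mul_mem he (hc x)⟩
  have hEsq : ∀ x ∈ E, x * x = 1 := by
    rintro x (hx | hx)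
    · exact hWsq x hx
    · have h2 : t * (x * t) = x * t * t := hcm _ hx t
      rw [mul_assoc x, ht, mul_one] at h2
      have h3 : (x * t) * (x * t) = 1 := hWsq _ hx
      rwa [mul_assoc, h2] at h3
  have hlt : W < E := lt_of_le_of_ne (fun x hx => Or.inl hx) fun h =>
    htW (h.ge (show t ∈ E from Or.inr (by rw [ht]; exact W.one_mem)))
  have h1 := PGroup.mul_card_le_of_lt hX hlt
  have h2 := card_le_four hX hscn E hEsq
  omega

include hX hA hXA hscn in
theorem invol_mem_omegaCenter (hW4 : Nat.card (omegaCenter X) = 4) (B : Subgroup X) [B.Normal]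
    (hB : ∀ a ∈ B, ∀ b ∈ B, a * b = b * a) (hinv : ∀ φ ∈ A, ∀ x ∈ B, φ x ∈ B) {b : X} (hb : b ∈ B)
    (hb2 : b * b = 1) : b ∈ omegaCenter X := by
  haveI : Fact (Nat.Prime 2) := ⟨Nat.prime_two⟩
  let E : Subgroup X :=
    { carrier := {x | x ∈ B ∧ x * x = 1}
      one_mem' := ⟨one_mem _, mul_one 1⟩
      mul_mem' := fun {a c} ha hc => ⟨mul_mem ha.1 hc.1, by
        rw [mul_assoc, ← mul_assoc c, hB c hc.1 a ha.1, mul_assoc a c, hc.2, mul_one, ha.2]⟩
      inv_mem' := fun {a} ha => ⟨inv_mem ha.1, by rw [← mul_inv_rev, ha.2, inv_one]⟩ }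
  haveI : E.Normal := ⟨fun e he g => ⟨Subgroup.Normal.conj_mem inferInstance e he.1 g, by
    rw [show g * e * g⁻¹ * (g * e * g⁻¹) = g * (e * e) * g⁻¹ by group, he.2, mul_one, mul_inv_cancel]⟩⟩
  have hEinv : ∀ φ ∈ A, ∀ x ∈ E, φ x ∈ E := fun φ hφ x hx =>
    ⟨hinv φ hφ x hx.1, by rw [← map_mul, hx.2, map_one]⟩
  have hEsq : ∀ x ∈ E, x * x = 1 := fun x hx => hx.2
  have h4 := card_le_four hX hscn E hEsq
  have hc : E ≤ Subgroup.center X := by
    obtain ⟨k, hk⟩ := PGroup.exists_subgroup_card_eq_pow hX E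
    have hk2 : k ≤ 2 := by
      by_contra h
      rw [hk] at h4
      exact absurd (Nat.pow_le_pow_right two_pos (show 3 ≤ k by omega)) (by omega)
    interval_cases k
    · rw [Subgroup.eq_bot_of_card_eq E (by rw [hk]; rfl)]; exact bot_le
    · exact PGroup.le_center_of_card_eq hX (by rw [hk]; rfl)
    · exact four_le_center hX hA hXA E (by rw [hk]; rfl) hEsq hEinv
  exact ⟨hc (show b ∈ E from ⟨hb, hb2⟩), hb2⟩

end

end Cfsg.Agent.OddAutTwo
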