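import Cfsg.Agent.Lib.OddAutTwo.Squares

/-!
# The exponent of an invariant normal abelian subgroup

A `Tower` has exponent four, and then every square of `X` lies in `Ω₁(Z(X))` (`sq_mem_of_free`).
-/

set_option autoImplicit false
set_option linter.style.haveILetI false
set_option linter.unusedSectionVars false

open scoped commutatorElement

namespace Cfsg.Agent.OddAutTwo

variable {X : Type*} [Group X] {A : Subgroup (MulAut X)}

local notation "W" => omegaCenter X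

section

variable [Finite X] (hX : IsPGroup 2 X) (hA : Odd (Nat.card A))
  (hXA : Subgroup.closure {g : X | ∃ x : X, ∃ a ∈ A, g = x⁻¹ * a x} = ⊤)
  (hscn : ¬ ∃ B : Subgroup X, B.Normal ∧ Subgroup.centralizer (B : Set X) = B ∧
      ∃ E : Subgroup X, E ≤ B ∧ Cfsg.IsElementaryAbelian 2 E ∧ Nat.card E = 8)
  (hW4 : Nat.card (omegaCenter X) = 4)
  (hfree : ∀ s ∈ omegaCenter X, (∀ φ ∈ A, φ s = s) → s = 1)

variable {D : Subgroup X} [D.Normal] {n : ℕ}

theorem Tower.comm_mem_omega (T : Tower A D n) (x : X) {e : X} (he : e ∈ D) (he2 : e * e ∈ W) :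
    ⁅x, e⁆ ∈ W :=
  T.omega _ (comm_mem x he) (by rw [← comm_sq_eq T.comm x he he, comm_omega he2])

theorem Tower.exists_rho (T : Tower A D n) :
    ∃ ρ : X →* (W →* W), ∀ (x : X) (w : W), ∀ e ∈ D, e * e = w → (ρ x w : X) = ⁅x, e⁆ := by
  classical
  choose r hr hr2 using fun w : W => T.root_one w.2
  have hmem : ∀ (x : X) (w : W), ⁅x, r w⁆ ∈ W := fun x w =>
    T.comm_mem_omega x (hr w) ((hr2 w).symm ▸ w.2)
  have hval : ∀ (x : X) (w : W), ∀ e ∈ D, e * e = w → ⁅x, r w⁆ = ⁅x, e⁆ := by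
    intro x w e he hew
    have hf : e * (r w)⁻¹ ∈ W := by
      refine T.omega _ (mul_mem he (inv_mem (hr w))) ?_
      rw [mul_assoc, ← mul_assoc (r w)⁻¹, T.comm _ (inv_mem (hr w)) e he, mul_assoc e, ← mul_assoc,
        hew, ← mul_inv_rev, hr2, mul_inv_cancel]
    have := comm_sq_eq T.comm x (T.omega_le hf) (hr w)
    rw [inv_mul_cancel_right, comm_omega hf, one_mul] at this
    exact this.symm
  let f : X → (W →* W) := fun x => MonoidHom.mk' (fun w => ⟨⁅x, r w⁆, hmem x w⟩) fun w w' => Subtype.ext (by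
    show ⁅x, r (w * w')⁆ = ⁅x, r w⁆ * ⁅x, r w'⁆
    rw [hval x (w * w') (r w * r w') (mul_mem (hr w) (hr w')) (by
      rw [mul_assoc, ← mul_assoc (r w'), T.comm _ (hr w') _ (hr w), mul_assoc (r w), ← mul_assoc, hr2, hr2]
      rfl), comm_sq_eq T.comm x (hr w) (hr w')])
  refine ⟨MonoidHom.mk' f fun x y => MonoidHom.ext fun w => Subtype.ext ?_, fun x w e he hew => hval x w e he hew⟩
  show ⁅x * y, r w⁆ = ⁅x, r w⁆ * ⁅y, r w⁆
  rw [comm_mul_left', omega_comm (hmem y w) x, mul_inv_cancel_right, omega_comm (hmem x w)]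

include hA hXA hW4 hfree in
theorem Tower.rho_injective (T : Tower A D n) {ρ : X →* (W →* W)}
    (hρ : ∀ (x : X) (w : W), ∀ e ∈ D, e * e = w → (ρ x w : X) = ⁅x, e⁆) {x : X} (hx : ρ x ≠ 1) :
    Function.Injective (ρ x) ∧ ∃ _ : Fintype A, nrm (omegaAut A) (ρ x) = 1 := by
  classical
  haveI := Fintype.ofFinite A
  have hequiv : ∀ φ : A, ρ ((φ : MulAut X) x) =
      (omegaAut A φ).toMonoidHom.comp ((ρ x).comp (omegaAut A φ⁻¹).toMonoidHom) := by
    intro φ
    refine MonoidHom.ext fun w => Subtype.ext ?_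
    obtain ⟨e, he, hew⟩ := T.root_one (omegaAut A φ⁻¹ w).2
    have h1 : (φ : MulAut X) (omegaAut A φ⁻¹ w : X) = w := (φ : MulAut X).apply_symm_apply _
    show (ρ ((φ : MulAut X) x) w : X) = (φ : MulAut X) (ρ x (omegaAut A φ⁻¹ w) : X)
    rw [hρ x _ e he hew, map_commutatorElement]
    exact hρ _ w _ (T.inv _ φ.2 _ he) (by rw [← map_mul, hew, h1])
  have hN : nrm (omegaAut A) (ρ x) = 1 := by
    rw [← norm_eq_one hXA ρ x]
    exact Finset.prod_congr rfl fun φ _ => (hequiv φ).symm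
  refine ⟨?_, ⟨inferInstance, hN⟩⟩
  by_contra hni
  exact nrm_ne_one hW4 omega_sq hA (omegaAut A) (omegaAut_free hfree) (ρ x) hx hni hN

include hA hXA hW4 hfree in
theorem Tower.rho_eq_one (T : Tower A D n) (h3 : 3 ≤ n) {ρ : X →* (W →* W)}
    (hρ : ∀ (x : X) (w : W), ∀ e ∈ D, e * e = w → (ρ x w : X) = ⁅x, e⁆) {t : X} (ht : t * t ∈ D) :
    ρ t = 1 := by
  by_contra hne
  obtain ⟨hinj, hfin, hN⟩ := T.rho_injective hA hXA hW4 hfree hρ hne
  have hid : ρ t = MonoidHom.id W := by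
    refine MonoidHom.ext fun w => hinj ?_
    show ρ t (ρ t w) = ρ t w
    obtain ⟨e, he, hew⟩ := T.root 2 (by omega) w w.2
    have hew' : e * e * (e * e) = (w : X) := by
      rw [← hew]; simp [pow_succ, mul_assoc]
    have h1 : (ρ t w : X) = ⁅t, e * e⁆ := hρ t w _ (mul_mem he he) hew'
    set f := ⁅t, e⁆ with hf
    have hfD : f ∈ D := comm_mem t he
    rw [comm_sq_eq T.comm t he he, ← hf] at h1
    have h2 : (ρ t (ρ t w) : X) = ⁅t, f⁆ := hρ t _ f hfD h1.symm
    have h3 : ⁅t * t, e⁆ = 1 := commutatorElement_eq_one_iff_mul_comm.mpr (T.comm _ ht e he)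
    rw [comm_mul_left', ← hf, show t * f * t⁻¹ * f = ⁅t, f⁆ * (f * f) by
      rw [commutatorElement_def]; group, ← h2, ← h1] at h3
    have h4 : ρ t (ρ t w) * ρ t w = 1 := Subtype.ext h3
    rw [mul_eq_one_iff_eq_inv, inv_eq_of_mul_eq_one_right (omega_sq (ρ t w))] at h4
    exact h4
  rw [hid] at hN
  have hW1 : ∀ w : W, w = 1 := fun w => by
    rw [← nrm_id_apply omega_sq hA (omegaAut A) w, hN, MonoidHom.one_apply]
  have : Subsingleton W := ⟨fun a b => (hW1 a).trans (hW1 b).symm⟩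
  rw [Nat.card_of_subsingleton (1 : W)] at hW4
  omega

include hX hA hXA hscn hW4 hfree in
theorem Tower.exponent_four (T : Tower A D n) (hD : D ≠ ⊤) : n = 2 := by
  classical
  haveI : Fact (Nat.Prime 2) := ⟨Nat.prime_two⟩
  haveI := Fintype.ofFinite A
  by_contra hn
  have h3 : 3 ≤ n := by have := T.two_le; omega
  obtain ⟨ρ, hρ⟩ := T.exists_rho
  let S : Subgroup X :=
    { carrier := {t | t * t ∈ D ∧ ∀ x : X, ⁅x, t⁆ ∈ D}
      one_mem' := ⟨by simp, fun x => by simp⟩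
      mul_mem' := fun {u v} hu hv => by
        refine ⟨?_, fun x => ?_⟩
        · rw [show u * v * (u * v) = ⁅u, v⁆ * (v * (u * u) * v⁻¹) * (v * v) by
            rw [commutatorElement_def]; group]
          exact mul_mem (mul_mem (hv.2 u) (Subgroup.Normal.conj_mem inferInstance _ hu.1 v)) hv.1
        · rw [comm_mul_right']
          exact mul_mem (hu.2 x) (Subgroup.Normal.conj_mem inferInstance _ (hv.2 x) u)
      inv_mem' := fun {u} hu => by
        refine ⟨by rw [← mul_inv_rev]; exact inv_mem hu.1, fun x => ?_⟩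
        rw [show ⁅x, u⁻¹⁆ = u⁻¹ * ⁅x, u⁆⁻¹ * (u⁻¹)⁻¹ by simp only [commutatorElement_def]; group]
        exact Subgroup.Normal.conj_mem inferInstance _ (inv_mem (hu.2 x)) _ }
  have hDS : D ≤ S := fun d hd => ⟨mul_mem hd hd, fun x => comm_mem x hd⟩
  have hSinv : ∀ φ ∈ A, ∀ u ∈ S, φ u ∈ S := fun φ hφ u hu => by
    refine ⟨by rw [← map_mul]; exact T.inv φ hφ _ hu.1, fun x => ?_⟩
    obtain ⟨x', rfl⟩ := φ.surjective x
    rw [← map_commutatorElement]; exact T.inv φ hφ _ (hu.2 x')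
  obtain ⟨t0, ht0S, ht0D⟩ : ∃ u, u ∈ S ∧ u ∉ D := by
    obtain ⟨K, hKn, hDK, -, hK, hKD⟩ := PGroup.exists_normal_between hX (lt_top_iff_ne_top.mpr hD)
    obtain ⟨u, huK, huD⟩ := SetLike.exists_of_lt (lt_of_le_of_ne hDK fun h => by
      rw [← h] at hK; have := Nat.card_pos (α := D); omega)
    refine ⟨u, ⟨?_, fun x => ?_⟩, huD⟩
    · have hidx : (D.subgroupOf K).index = 2 := by
        have h1 := (D.subgroupOf K).card_mul_index
        rw [Nat.card_congr (Subgroup.subgroupOfEquivOfLe hDK).toEquiv, hK, mul_comm 2] at h1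
        exact Nat.eq_of_mul_eq_mul_left Nat.card_pos h1
      exact Subgroup.mul_self_mem_of_index_two hidx ⟨u, huK⟩
    · rw [← commutatorElement_inv]
      exact inv_mem (hKD (Subgroup.commutator_mem_commutator huK (Subgroup.mem_top x)))
  -- elements of `S` centralize the squares in `D`
  have hcent : ∀ t ∈ S, ∀ j, j + 1 ≤ n → ∀ d ∈ D, d ^ 2 ^ j = 1 → ⁅t, d⁆ = 1 := by
    intro t ht j
    have hρt := T.rho_eq_one hA hXA hW4 hfree h3 hρ ht.1
    induction j with
    | zero =>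
      intro _ d _ hd
      rw [show d = 1 by simpa using hd, commutatorElement_one_right]
    | succ j ih =>
      intro hj d hd hdj
      obtain ⟨e, he, hed⟩ := T.sqrt (j + 1) hj d hd hdj
      have h2 : ⁅t, d * d⁆ = 1 := ih (by omega) _ (mul_mem hd hd) (by
        rw [← pow_two, ← pow_mul, ← pow_succ', hdj])
      rw [comm_sq_eq T.comm t hd hd] at h2
      have hwW : ⁅t, d⁆ ∈ W := T.omega _ (comm_mem t hd) h2
      set f := ⁅t, e⁆ with hf
      have hfD : f ∈ D := comm_mem t he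
      have hff : f * f = ⁅t, d⁆ := by rw [hf, ← comm_sq_eq T.comm t he he, hed]
      have h4 : ⁅t, f⁆ = 1 := by
        rw [← hρ t ⟨_, hwW⟩ f hfD hff, hρt]; rfl
      have h5 : ⁅t * t, e⁆ = 1 := commutatorElement_eq_one_iff_mul_comm.mpr (T.comm _ ht.1 e he)
      rw [comm_mul_left', ← hf, show t * f * t⁻¹ * f = ⁅t, f⁆ * (f * f) by
        rw [commutatorElement_def]; group, h4, one_mul, hff] at h5
      exact h5
  set N := 2 ^ (n - 1) with hN
  choose q hq hqw using fun w : W => T.root (n - 1) (by omega) w w.2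
  have hcentN : ∀ t ∈ S, ∀ d ∈ D, d ^ N = 1 → ⁅t, d⁆ = 1 := fun t ht => hcent t ht (n - 1) (by omega)
  have hWN : ∀ d ∈ D, d ^ N ∈ W := fun d hd => T.omega _ (pow_mem hd _) (by
    rw [← pow_add, hN, ← two_mul, ← pow_succ', show n - 1 + 1 = n by omega]; exact T.exp _ hd)
  have hmem : ∀ t ∈ S, ∀ d ∈ D, ⁅t, d⁆ ∈ W := fun t ht d hd => T.omega _ (comm_mem t hd) (by
    rw [← comm_sq_eq T.comm t hd hd]
    refine hcentN t ht _ (mul_mem hd hd) ?_
    rw [← pow_two, ← pow_mul, hN, ← pow_succ', show n - 1 + 1 = n by omega]; exact T.exp _ hd)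
  have hindep : ∀ t ∈ S, ∀ (w : W), ∀ e ∈ D, e ^ N = w → ⁅t, q w⁆ = ⁅t, e⁆ := by
    intro t ht w e he hew
    have h1 : ⁅t, e * (q w)⁻¹⁆ = 1 := hcentN t ht _ (mul_mem he (inv_mem (hq w))) (by
      rw [(show Commute e (q w)⁻¹ from T.comm e he _ (inv_mem (hq w))).mul_pow, inv_pow, hew, hqw,
        mul_inv_cancel])
    have := comm_sq_eq T.comm t (mul_mem he (inv_mem (hq w))) (hq w)
    rw [inv_mul_cancel_right, h1, one_mul] at this
    exact this.symm
  let η : S →* (W →* W) := MonoidHom.mk' (fun t => MonoidHom.mk'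
      (fun w => ⟨⁅(t : X), q w⁆, hmem t t.2 _ (hq w)⟩) fun w w' => Subtype.ext (by
        show ⁅(t : X), q (w * w')⁆ = ⁅(t : X), q w⁆ * ⁅(t : X), q w'⁆
        rw [hindep t t.2 (w * w') (q w * q w') (mul_mem (hq w) (hq w')) (by
          rw [(show Commute (q w) (q w') from T.comm _ (hq w) _ (hq w')).mul_pow, hqw, hqw]; rfl),
          comm_sq_eq T.comm _ (hq w) (hq w')])) fun t t' => MonoidHom.ext fun w => Subtype.ext (by
        show ⁅(t : X) * t', q w⁆ = ⁅(t : X), q w⁆ * ⁅(t' : X), q w⁆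
        rw [comm_mul_left', omega_comm (hmem t' t'.2 _ (hq w)), mul_inv_cancel_right,
          omega_comm (hmem t t.2 _ (hq w))])
  have hval : ∀ (t : S), ∀ d ∈ D, ∀ h : d ^ N ∈ W, (η t ⟨_, h⟩ : X) = ⁅(t : X), d⁆ := fun t d hd h =>
    hindep t t.2 _ d hd rfl
  have hη0 : η ⟨t0, ht0S⟩ ≠ 1 := by
    intro h
    refine ht0D (T.self_centralizing hX hA hXA hscn hW4 hfree (Subgroup.mem_centralizer_iff.mpr
      fun d hd => (commutatorElement_eq_one_iff_mul_comm.mp ?_).symm))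
    rw [← hval ⟨t0, ht0S⟩ d hd (hWN d hd), h]; rfl
  -- an element of `S` inducing an injective map
  obtain ⟨t, htinj⟩ : ∃ t : S, Function.Injective (η t) := by
    by_cases hi : Function.Injective (η ⟨t0, ht0S⟩)
    · exact ⟨_, hi⟩
    have hne := nrm_ne_one hW4 omega_sq hA (omegaAut A) (omegaAut_free hfree) _ hη0 hi
    have hin : nrm (omegaAut A) (η ⟨t0, ht0S⟩) ∈ η.range := by
      refine Subgroup.prod_mem _ fun φ _ => ⟨⟨(φ : MulAut X) t0, hSinv _ φ.2 _ ht0S⟩, ?_⟩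
      refine MonoidHom.ext fun w => Subtype.ext ?_
      show ⁅(φ : MulAut X) t0, q w⁆ = (φ : MulAut X) ⁅t0, q (omegaAut A φ⁻¹ w)⁆
      have h1 : (φ : MulAut X) (omegaAut A φ⁻¹ w : X) = w := (φ : MulAut X).apply_symm_apply _
      rw [map_commutatorElement]
      exact hindep _ (hSinv _ φ.2 _ ht0S) w _ (T.inv _ φ.2 _ (hq _)) (by rw [← map_pow, hqw, h1])
    obtain ⟨t, ht⟩ := hin
    refine ⟨t, ?_⟩
    rw [ht]
    exact injective_of_invariant hW4 omega_sq hA (omegaAut A) (omegaAut_free hfree) _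
      (fun φ w => nrm_invariant (omegaAut A) _ φ w) hne
  obtain ⟨t, htS⟩ := t
  have hinj : ∀ d ∈ D, ⁅t, d⁆ = 1 → d ^ N = 1 := by
    intro d hd h
    have h1 : η ⟨t, htS⟩ ⟨_, hWN d hd⟩ = η ⟨t, htS⟩ 1 := by
      rw [map_one]; exact Subtype.ext ((hval ⟨t, htS⟩ d hd (hWN d hd)).trans h)
    exact congrArg Subtype.val (htinj h1)
  let sq : D →* X := MonoidHom.mk' (fun d => (d : X) * d) fun a b => by
    show (a : X) * b * ((a : X) * b) = _
    rw [mul_assoc, ← mul_assoc (b : X), T.comm b b.2 a a.2, mul_assoc (a : X) b, ← mul_assoc]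
  let σ : D →* X := MonoidHom.mk' (fun d => ⁅t, (d : X)⁆ * sq d) fun a b => by
    show ⁅t, (a : X) * b⁆ * sq (a * b) = ⁅t, (a : X)⁆ * sq a * (⁅t, (b : X)⁆ * sq b)
    rw [comm_sq_eq T.comm t a.2 b.2, map_mul, mul_assoc, mul_assoc, ← mul_assoc ⁅t, (b : X)⁆,
      ← mul_assoc (sq a), omega_comm (hmem t htS b b.2) (sq a)]
  have hkereq : σ.ker = sq.ker := by
    ext ⟨d, hd⟩
    show ⁅t, d⁆ * (d * d) = 1 ↔ d * d = 1
    constructor
    · intro h
      have h1 : d * d ∈ W := by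
        rw [eq_inv_of_mul_eq_one_right h]; exact inv_mem (hmem t htS d hd)
      have h2 : ⁅t, d⁆ = 1 := hcentN t htS d hd (by
        rw [hN, show n - 1 = 2 + (n - 3) by omega, pow_add, pow_mul,
          show d ^ 2 ^ 2 = d * d * (d * d) by simp [pow_succ, mul_assoc], h1.2, one_pow])
      rwa [h2, one_mul] at h
    · intro h
      rw [comm_omega (T.omega d hd h), one_mul, h]
  have hle : σ.range ≤ sq.range := by
    rintro _ ⟨⟨d, hd⟩, rfl⟩
    obtain ⟨e, he, hew⟩ := T.root_one (hmem t htS d hd)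
    refine ⟨⟨e, he⟩ * ⟨d, hd⟩, ?_⟩
    rw [map_mul]
    show e * e * (d * d) = ⁅t, d⁆ * (d * d)
    rw [hew]
  have hrange : σ.range = sq.range :=
    Subgroup.eq_of_le_of_card_ge hle (by rw [← Subgroup.index_ker, ← Subgroup.index_ker, hkereq])
  have htt : t * t ∈ σ.range := by
    rw [hrange]
    obtain ⟨e, he, hee⟩ := T.sqrt (n - 1) (by omega) _ htS.1 (hinj _ htS.1 (by
      rw [commutatorElement_eq_one_iff_mul_comm, mul_assoc]))
    exact ⟨⟨e, he⟩, hee⟩
  obtain ⟨⟨d, hd⟩, hd2⟩ := htt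
  obtain ⟨u, hu⟩ : ∃ u, u = t⁻¹ * d := ⟨_, rfl⟩
  have huS : u ∈ S := hu ▸ S.mul_mem (S.inv_mem htS) (hDS hd)
  have hu2 : u * u = 1 := by
    rw [hu, show t⁻¹ * d * (t⁻¹ * d) = (t * t)⁻¹ * (⁅t, d⁆ * (d * d)) by
      rw [commutatorElement_def]; group]
    rw [show ⁅t, d⁆ * (d * d) = t * t from hd2, inv_mul_cancel]
  have huW : ∀ x : X, ⁅x, u⁆ ∈ W := fun x => by
    set f := ⁅x, u⁆ with hf
    have hfD : f ∈ D := huS.2 x
    have h2 : f * u * (f * u) = 1 := by
      rw [show f * u = x * u * x⁻¹ by rw [hf, commutatorElement_def]; group,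
        show x * u * x⁻¹ * (x * u * x⁻¹) = x * (u * u) * x⁻¹ by group, hu2, mul_one, mul_inv_cancel]
    rw [show f * u * (f * u) = f * ⁅u, f⁆ * f * (u * u) by rw [commutatorElement_def]; group, hu2, mul_one,
      omega_comm (hmem u huS f hfD) f, mul_assoc] at h2
    have h3 : f * f ∈ W := by
      rw [eq_inv_of_mul_eq_one_right h2]; exact inv_mem (hmem u huS f hfD)
    have h4 : ⁅u, f⁆ = 1 := hcentN u huS f hfD (by
      rw [hN, show n - 1 = 2 + (n - 3) by omega, pow_add, pow_mul,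
        show f ^ 2 ^ 2 = f * f * (f * f) by simp [pow_succ, mul_assoc], h3.2, one_pow])
    rw [h4, one_mul] at h2
    exact T.omega f hfD h2
  have huD : u ∈ D := T.omega_le (invol_mem hX hscn omegaCenter_le (fun z hz => hz.2) hW4 hu2 huW)
  have htD : t ∈ D := by
    have h := inv_mem (mul_mem huD (inv_mem hd))
    rwa [hu, mul_inv_cancel_right, inv_inv] at h
  obtain ⟨w, hw⟩ : ∃ w : W, w ≠ 1 := by
    by_contra h
    push Not at h
    have : Subsingleton W := ⟨fun a b => (h a).trans (h b).symm⟩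
    rw [Nat.card_of_subsingleton (1 : W)] at hW4
    omega
  refine hw (Subtype.ext ?_)
  rw [← hqw w, ← hN]
  exact hinj _ (hq w) (commutatorElement_eq_one_iff_mul_comm.mpr (T.comm t htD _ (hq w)))

include hX hA hXA hscn hW4 hfree in
theorem Tower.sq_mem (T : Tower A D n) (hD : D ≠ ⊤) (x : X) : x * x ∈ W := by
  obtain rfl := T.exponent_four hX hA hXA hscn hW4 hfree hD
  have hDsq : ∀ d ∈ D, d * d ∈ W := fun d hd => T.omega _ (mul_mem hd hd) (by
    have := T.exp d hd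
    simpa [pow_succ, mul_assoc] using this)
  by_cases hxD : x ∈ D
  · exact hDsq x hxD
  obtain ⟨ρ, hρ⟩ := T.exists_rho
  have hker : ∀ y : X, ρ y = 1 → y ∈ D := fun y hy =>
    T.self_centralizing hX hA hXA hscn hW4 hfree (Subgroup.mem_centralizer_iff.mpr fun d hd =>
      (commutatorElement_eq_one_iff_mul_comm.mp (by
        rw [← hρ y ⟨_, hDsq d hd⟩ d hd rfl, hy]; rfl)).symm)
  have hxx : x * x ∈ D := hker _ (by
    rw [map_mul]; exact MonoidHom.ext fun w => omega_sq (ρ x w))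
  obtain ⟨hinj, -⟩ := T.rho_injective hA hXA hW4 hfree hρ (fun h => hxD (hker x h))
  refine T.omega _ hxx ?_
  have h1 : ρ x ⟨_, hDsq _ hxx⟩ = ρ x 1 := by
    rw [map_one]
    refine Subtype.ext ?_
    rw [hρ x ⟨_, hDsq _ hxx⟩ (x * x) hxx rfl]
    exact commutatorElement_eq_one_iff_mul_comm.mpr (mul_assoc x x x).symm
  exact congrArg Subtype.val (hinj h1)

end

end Cfsg.Agent.OddAutTwo
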