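import Cfsg.Agent.Lib.OddAutTwo.Exponent
import Cfsg.Agent.Lib.Squaring.Basic
import Cfsg.Agent.Lib.Extraspecial.Basic

/-!
# Special groups among the 2-groups without large normal elementary abelian subgroups

* `sq_mem_of_free`: squares lie in `Ω₁(Z(X))` when `A` has no fixed point there.
* `isSpecial_of_no_scn`: `X` is special with elementary abelian centre of order two or four.
* `card_of_center_four`, `count_of_center_two`: the two non-quaternion configurations.
-/

set_option autoImplicit false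
set_option linter.style.haveILetI false
set_option linter.unusedSectionVars false

open scoped commutatorElement

namespace Cfsg.Agent.OddAutTwo

variable {X : Type*} [Group X] {A : Subgroup (MulAut X)}

local notation "W" => omegaCenter X

section

variable [Finite X] (hX : IsPGroup 2 X) (hna : ¬ IsMulCommutative X) (hA : Odd (Nat.card A))
  (hXA : Subgroup.closure {g : X | ∃ x : X, ∃ a ∈ A, g = x⁻¹ * a x} = ⊤)
  (hscn : ¬ ∃ B : Subgroup X, B.Normal ∧ Subgroup.centralizer (B : Set X) = B ∧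
      ∃ E : Subgroup X, E ≤ B ∧ Cfsg.IsElementaryAbelian 2 E ∧ Nat.card E = 8)

include hX hna hA hXA hscn in
theorem sq_mem_of_free (hW4 : Nat.card (omegaCenter X) = 4)
    (hfree : ∀ s ∈ omegaCenter X, (∀ φ ∈ A, φ s = s) → s = 1) (x : X) : x * x ∈ W := by
  classical
  haveI : Fact (Nat.Prime 2) := ⟨Nat.prime_two⟩
  let P : Subgroup X → Prop := fun B =>
    B.Normal ∧ (∀ a ∈ B, ∀ b ∈ B, a * b = b * a) ∧ ∀ φ ∈ A, ∀ z ∈ B, φ z ∈ B
  by_cases hall : ∀ B, P B → B ≤ omegaCenter X
  · obtain ⟨C, hC⟩ := PGroup.exists_critical hX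
    haveI := hC.char
    have hBW : C ⊓ Subgroup.centralizer (C : Set X) ≤ omegaCenter X := hall _ ⟨inferInstance,
      fun a ha b hb => (Subgroup.mem_centralizer_iff.mp hb.2 a ha.1), fun φ _ z hz =>
        ⟨(PGroup.aut_mem_iff φ z).mpr hz.1, (PGroup.aut_mem_iff φ z).mpr hz.2⟩⟩
    refine hBW (le_inf hC.self_centralizing le_rfl (Subgroup.mem_centralizer_iff.mpr fun h hh => ?_))
    rw [← commutatorElement_eq_one_iff_mul_comm]
    have hw := hBW (hC.comm_mem h hh x)
    rw [comm_mul_right', omega_comm hw x, mul_inv_cancel_right]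
    exact hw.2
  push Not at hall
  obtain ⟨B, ⟨hBn, hBab, hBinv⟩, hBW⟩ := hall
  haveI := hBn
  have hstart : P (B ⊔ omegaCenter X) := by
    refine ⟨inferInstance, fun a ha b hb => ?_, fun φ hφ z hz => ?_⟩
    · obtain ⟨a1, ha1, a2, ha2, rfl⟩ := Subgroup.mem_sup_of_normal_right.mp ha
      obtain ⟨b1, hb1, b2, hb2, rfl⟩ := Subgroup.mem_sup_of_normal_right.mp hb
      calc a1 * a2 * (b1 * b2) = a1 * (a2 * b1) * b2 := by group
        _ = a1 * b1 * (a2 * b2) := by rw [← omega_comm ha2 b1]; group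
        _ = b1 * a1 * (b2 * a2) := by rw [hBab a1 ha1 b1 hb1, omega_comm hb2 a2]
        _ = b1 * (a1 * b2) * a2 := by group
        _ = b1 * b2 * (a1 * a2) := by rw [omega_comm hb2 a1]; group
    · obtain ⟨a1, ha1, a2, ha2, rfl⟩ := Subgroup.mem_sup_of_normal_right.mp hz
      rw [map_mul]
      exact Subgroup.mul_mem_sup (hBinv φ hφ a1 ha1) (omegaCenter_inv φ ha2)
  obtain ⟨D, hBD, hmax⟩ := Finite.exists_le_maximal (α := Subgroup X) (p := P) hstart
  obtain ⟨hDn, hDab, hDinv⟩ := hmax.prop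
  haveI := hDn
  have hWD : omegaCenter X ≤ D := le_sup_right.trans hBD
  have homega : ∀ d ∈ D, d * d = 1 → d ∈ omegaCenter X := fun d hd h2 =>
    invol_mem_omegaCenter hX hA hXA hscn hW4 D hDab hDinv hd h2
  have hex : ∃ e, ∀ d ∈ D, d ^ 2 ^ e = 1 := by
    obtain ⟨k, hk⟩ := PGroup.exists_card_eq_pow hX
    exact ⟨k, fun d _ => hk ▸ pow_card_eq_one'⟩
  set n := Nat.find hex with hn
  have hexp := Nat.find_spec hex
  rw [← hn] at hexp
  have htwo : 2 ≤ n := by
    by_contra h
    refine hBW (le_sup_left.trans (hBD.trans fun d hd => homega d hd ?_))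
    have h1 := hexp d hd
    rcases (show n = 0 ∨ n = 1 by omega) with e | e <;> rw [e] at h1
    · rw [pow_zero, pow_one] at h1; rw [h1, one_mul]
    · rw [pow_one, pow_two] at h1; exact h1
  have hroot : ∀ j < n, ∀ w ∈ omegaCenter X, ∃ e ∈ D, e ^ 2 ^ j = w := by
    intro j hj
    let S : Subgroup (omegaCenter X) :=
      { carrier := {w | ∃ e ∈ D, e ^ 2 ^ j = (w : X)}
        one_mem' := ⟨1, one_mem _, one_pow _⟩
        mul_mem' := fun {u v} => fun ⟨e, he, h1⟩ ⟨f, hf, h2⟩ => ⟨e * f, mul_mem he hf, by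
          rw [(show Commute e f from hDab e he f hf).mul_pow, h1, h2]; rfl⟩
        inv_mem' := fun {u} => fun ⟨e, he, h1⟩ => ⟨e⁻¹, inv_mem he, by rw [inv_pow, h1]; rfl⟩ }
    have hne : S ≠ ⊥ := by
      obtain ⟨d, hd, hdj⟩ : ∃ d ∈ D, d ^ 2 ^ j ≠ 1 := by
        by_contra h
        push Not at h
        exact Nat.find_min hex hj h
      have hex' : ∃ m, d ^ 2 ^ m = 1 := ⟨n, hexp d hd⟩
      set m := Nat.find hex' with hm
      have hms := Nat.find_spec hex'
      rw [← hm] at hms
      have hmj : j < m := by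
        by_contra h
        apply hdj
        rw [← Nat.sub_add_cancel (Nat.le_of_not_lt h), pow_add, mul_comm, pow_mul, hms, one_pow]
      set e := d ^ 2 ^ (m - 1 - j) with he
      have hej : e ^ 2 ^ j = d ^ 2 ^ (m - 1) := by
        rw [he, ← pow_mul, ← pow_add, show m - 1 - j + j = m - 1 by omega]
      have heW : e ^ 2 ^ j ∈ omegaCenter X := homega _ (pow_mem (pow_mem hd _) _) (by
        rw [hej, ← pow_add, ← two_mul, ← pow_succ', show m - 1 + 1 = m by omega, hms])
      intro hS
      have hmem : (⟨_, heW⟩ : omegaCenter X) ∈ S := ⟨e, pow_mem hd _, rfl⟩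
      rw [hS, Subgroup.mem_bot] at hmem
      exact Nat.find_min hex' (show m - 1 < m by omega) (hej ▸ congrArg Subtype.val hmem)
    have hinv : ∀ φ : A, ∀ w ∈ S, omegaAut A φ w ∈ S := fun φ w ⟨e, he, h⟩ =>
      ⟨(φ : MulAut X) e, hDinv φ φ.2 e he, by rw [← map_pow, h]; rfl⟩
    haveI := Fintype.ofFinite A
    have htop := eq_top_of_invariant hW4 omega_sq hA (omegaAut A) (omegaAut_free hfree) S hinv hne
    intro w hw
    exact htop.ge (Subgroup.mem_top (⟨w, hw⟩ : omegaCenter X))
  have T : Tower A D n := ⟨hDab, hDinv, hWD, homega,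
    fun C hC hCab hCinv hle => hmax.2 ⟨hC, hCab, hCinv⟩ hle, htwo, hexp, hroot⟩
  refine T.sq_mem hX hA hXA hscn hW4 hfree (fun h => hna ⟨⟨fun a b => ?_⟩⟩) x
  exact hDab a (h ▸ Subgroup.mem_top a) b (h ▸ Subgroup.mem_top b)

include hX hna hA hXA hscn in
theorem isSpecial_of_no_scn : Cfsg.IsSpecial 2 X ∧ (∀ z ∈ Subgroup.center X, z * z = 1) := by
  classical
  haveI : Fact (Nat.Prime 2) := ⟨Nat.prime_two⟩
  have hscomm : Cfsg.IsSpecial 2 X → ∀ z ∈ Subgroup.center X, z * z = 1 := by
    rintro ⟨-, hΦ, hD⟩ z hz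
    have hcZ : ∀ a b : X, ⁅a, b⁆ ∈ Subgroup.center X := fun a b =>
      hD ▸ Subgroup.commutator_mem_commutator (Subgroup.mem_top a) (Subgroup.mem_top b)
    let S : Subgroup X :=
      { carrier := {z | z ∈ Subgroup.center X ∧ z * z = 1}
        one_mem' := (omegaCenter X).one_mem'
        mul_mem' := (omegaCenter X).mul_mem'
        inv_mem' := (omegaCenter X).inv_mem' }
    have hle : _root_.commutator X ≤ S := by
      rw [_root_.commutator_def, Subgroup.commutator_le]
      intro a _ b _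
      refine ⟨hcZ a b, ?_⟩
      have h : ⁅a, b * b⁆ = 1 := commutatorElement_eq_one_iff_mul_comm.mpr
        (Subgroup.mem_center_iff.mp (hΦ ▸ (pow_two b) ▸ PGroup.pow_mem_frattini hX b) a)
      rwa [comm_mul_right', Subgroup.mem_center_iff.mp (hcZ a b) b, mul_inv_cancel_right] at h
    exact (hle (hD.symm ▸ hz)).2
  suffices h : Cfsg.IsSpecial 2 X from ⟨h, hscomm h⟩
  have hW4le : Nat.card (omegaCenter X) ≤ 4 := card_le_four hX hscn _ fun z hz => hz.2
  by_cases hfix : ∀ s ∈ omegaCenter X, ∀ φ ∈ A, φ s = s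
  · refine (PGroup.special_of_fix_char_abelian hX A (Nat.coprime_two_right.mpr hA) hXA fun H hH hab a ha => ?_).1
    haveI := hH
    have hcomm : ∀ u ∈ H, ∀ v ∈ H, u * v = v * u := fun u hu v hv =>
      congrArg Subtype.val (hab.is_comm.comm (⟨u, hu⟩ : H) ⟨v, hv⟩)
    refine PGroup.fixed_of_fix_order_p_abelian hX (coprime_orderOf hA ha) hcomm
      (fun u hu => (PGroup.aut_mem_iff a u).mpr hu) fun u hu hu2 => hfix u ?_ a ha
    rw [pow_two] at hu2
    let E : Subgroup X :=
      { carrier := {x | x ∈ H ∧ x * x = 1}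
        one_mem' := ⟨one_mem _, mul_one 1⟩
        mul_mem' := fun {b c} hb hc => ⟨mul_mem hb.1 hc.1, by
          rw [mul_assoc, ← mul_assoc c, hcomm c hc.1 b hb.1, mul_assoc b c, hc.2, mul_one, hb.2]⟩
        inv_mem' := fun {b} hb => ⟨inv_mem hb.1, by rw [← mul_inv_rev, hb.2, inv_one]⟩ }
    haveI : E.Normal := ⟨fun e he g => ⟨Subgroup.Normal.conj_mem inferInstance e he.1 g, by
      rw [show g * e * g⁻¹ * (g * e * g⁻¹) = g * (e * e) * g⁻¹ by group, he.2, mul_one, mul_inv_cancel]⟩⟩
    have hEinv : ∀ φ ∈ A, ∀ x ∈ E, φ x ∈ E := fun φ hφ x hx =>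
      ⟨(PGroup.aut_mem_iff φ x).mpr hx.1, by rw [← map_mul, hx.2, map_one]⟩
    have h4 := card_le_four hX hscn E fun x hx => hx.2
    obtain ⟨k, hk⟩ := PGroup.exists_subgroup_card_eq_pow hX E
    have hk2 : k ≤ 2 := by
      by_contra h
      rw [hk] at h4
      exact absurd (Nat.pow_le_pow_right two_pos (show 3 ≤ k by omega)) (by omega)
    have hc : E ≤ Subgroup.center X := by
      interval_cases k
      · rw [Subgroup.eq_bot_of_card_eq E (by rw [hk]; rfl)]; exact bot_le
      · exact PGroup.le_center_of_card_eq hX (by rw [hk]; rfl)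
      · exact four_le_center hX hA hXA E (by rw [hk]; rfl) (fun x hx => hx.2) hEinv
    exact ⟨hc (show u ∈ E from ⟨hu, hu2⟩), hu2⟩
  push Not at hfix
  obtain ⟨s0, hs0, φ0, hφ0, hmove⟩ := hfix
  haveI := Fintype.ofFinite A
  have hW4 : Nat.card (omegaCenter X) = 4 := by
    obtain ⟨k, hk⟩ := PGroup.exists_subgroup_card_eq_pow hX (omegaCenter X)
    have hk2 : k ≤ 2 := by
      by_contra h
      rw [hk] at hW4le
      exact absurd (Nat.pow_le_pow_right two_pos (show 3 ≤ k by omega)) (by omega)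
    interval_cases k
    · exfalso
      have h0 := Subgroup.eq_bot_of_card_eq (omegaCenter X) (by rw [hk]; rfl)
      rw [h0, Subgroup.mem_bot] at hs0
      exact hmove (by rw [hs0, map_one])
    · exfalso
      have h2 : Nat.card (omegaCenter X) = 2 := by rw [hk]; rfl
      obtain ⟨⟨z, hz⟩, hz1, huniq⟩ := Nat.card_eq_two_iff' (1 : omegaCenter X) |>.mp h2
      by_cases hs1 : s0 = 1
      · exact hmove (by rw [hs1, map_one])
      have e1 := huniq ⟨s0, hs0⟩ fun h => hs1 (congrArg Subtype.val h)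
      have e2 := huniq ⟨φ0 s0, omegaCenter_inv φ0 hs0⟩ fun h =>
        hs1 (φ0.injective ((congrArg Subtype.val h).trans (map_one φ0).symm))
      exact hmove (congrArg Subtype.val (e2.trans e1.symm))
    · rw [hk]; rfl
  have hfree : ∀ s ∈ omegaCenter X, (∀ φ ∈ A, φ s = s) → s = 1 := by
    intro s hs h
    by_contra hs1
    exact hmove (congrArg Subtype.val (fixed_all hW4 omega_sq hA (omegaAut A)
      (φ := ⟨φ0, hφ0⟩) (s := (⟨s, hs⟩ : omegaCenter X))
      (fun e => hs1 (congrArg Subtype.val e)) (Subtype.ext (h φ0 hφ0)) ⟨s0, hs0⟩))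
  have hsq := sq_mem_of_free hX hna hA hXA hscn hW4 hfree
  have hcW : ∀ a b : X, ⁅a, b⁆ ∈ omegaCenter X := fun a b => by
    have := Squaring.swap_mem (omegaCenter X) hsq a⁻¹ b
    rw [inv_inv] at this
    simpa [commutatorElement_def] using this
  have hDW : _root_.commutator X ≤ omegaCenter X := by
    rw [_root_.commutator_def, Subgroup.commutator_le]
    exact fun a _ b _ => hcW a b
  have hDeq : _root_.commutator X = omegaCenter X := by
    refine le_antisymm hDW fun w hw => ?_
    haveI : (_root_.commutator X).Characteristic := by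
      rw [_root_.commutator_def]; infer_instance
    have htop := eq_top_of_invariant hW4 omega_sq hA (omegaAut A) (omegaAut_free hfree)
      ((_root_.commutator X).subgroupOf (omegaCenter X))
      (fun φ u hu => Subgroup.mem_subgroupOf.mpr ((PGroup.aut_mem_iff (φ : MulAut X) (u : X)).mpr (Subgroup.mem_subgroupOf.mp hu))) (fun h => hna ⟨⟨fun a b => by
        rw [← commutatorElement_eq_one_iff_mul_comm]
        exact congrArg Subtype.val (Subgroup.mem_bot.mp (h.le
          (show (⟨_, hcW a b⟩ : omegaCenter X) ∈ (_root_.commutator X).subgroupOf (omegaCenter X) from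
            Subgroup.commutator_mem_commutator (Subgroup.mem_top a) (Subgroup.mem_top b))))⟩⟩)
    exact htop.ge (Subgroup.mem_top (⟨w, hw⟩ : omegaCenter X))
  -- the centre has exponent two
  have hZW : Subgroup.center X ≤ omegaCenter X := by
    intro z hz
    refine ⟨hz, ?_⟩
    by_contra hz2
    let S : Subgroup (omegaCenter X) :=
      { carrier := {w | ∃ c ∈ Subgroup.center X, c * c = (w : X)}
        one_mem' := ⟨1, one_mem _, mul_one 1⟩
        mul_mem' := fun {u v} => fun ⟨c, hc, h1⟩ ⟨d, hd, h2⟩ => ⟨c * d, mul_mem hc hd, by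
          rw [mul_assoc, ← mul_assoc d, Subgroup.mem_center_iff.mp hc d, mul_assoc c d, ← mul_assoc, h1, h2]
          rfl⟩
        inv_mem' := fun {u} => fun ⟨c, hc, h1⟩ => ⟨c⁻¹, inv_mem hc, by rw [← mul_inv_rev, h1]; rfl⟩ }
    have htop := eq_top_of_invariant hW4 omega_sq hA (omegaAut A) (omegaAut_free hfree) S
      (fun φ w ⟨c, hc, h⟩ => ⟨(φ : MulAut X) c, (PGroup.aut_mem_iff _ c).mpr hc, by rw [← map_mul, h]; rfl⟩)
      (fun h => hz2 (congrArg Subtype.val (Subgroup.mem_bot.mp (h.le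
        (show (⟨_, hsq z⟩ : omegaCenter X) ∈ S from ⟨z, hz, rfl⟩)))))
    refine hna ⟨⟨fun a b => (Subgroup.mem_center_iff.mp ?_ a)⟩⟩
    obtain ⟨c, hc, hcc⟩ := htop.ge (Subgroup.mem_top (⟨_, hsq b⟩ : omegaCenter X))
    have hinv2 : b * c⁻¹ * (b * c⁻¹) = 1 := by
      rw [mul_assoc, ← mul_assoc c⁻¹, ← Subgroup.mem_center_iff.mp (inv_mem hc) b, mul_assoc b c⁻¹,
        ← mul_assoc, ← mul_inv_rev, hcc, mul_inv_cancel]
    have := mul_mem (omegaCenter_le (invol_mem hX hscn omegaCenter_le (fun w hw => hw.2) hW4 hinv2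
      fun y => hcW y _)) hc
    rwa [inv_mul_cancel_right] at this
  have hZeq : Subgroup.center X = omegaCenter X := le_antisymm hZW omegaCenter_le
  refine ⟨hX, ?_, hDeq.trans hZeq.symm⟩
  rw [hZeq]
  refine le_antisymm (PGroup.frattini_le_of_quotient_elementary (p := 2) hDW fun x => ?_) ?_
  · rw [pow_two]; exact hsq x
  · rw [← hDeq]; exact PGroup.commutator_le_frattini hX

/-- Commutators of a group of class two are controlled by a generating set. -/
theorem comm_mem_of_gen (hc : ∀ a b : X, ⁅a, b⁆ ∈ Subgroup.center X) (K : Subgroup X) (S : Set X)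
    (hS : Subgroup.closure S = ⊤) (h : ∀ s ∈ S, ∀ t ∈ S, ⁅s, t⁆ ∈ K) (a b : X) : ⁅a, b⁆ ∈ K := by
  have hl : ∀ u v w : X, ⁅u * v, w⁆ = ⁅u, w⁆ * ⁅v, w⁆ := fun u v w => by
    rw [comm_mul_left', Subgroup.mem_center_iff.mp (hc v w) u, mul_inv_cancel_right,
      Subgroup.mem_center_iff.mp (hc v w)]
  have hinv : ∀ u w : X, ⁅u⁻¹, w⁆ = ⁅u, w⁆⁻¹ := fun u w => by
    refine eq_inv_of_mul_eq_one_left ?_
    rw [← hl, inv_mul_cancel]
    exact commutatorElement_one_left w
  have h1 : ∀ t ∈ S, ∀ u : X, ⁅u, t⁆ ∈ K := by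
    intro t ht u
    induction (hS.ge (Subgroup.mem_top u)) using Subgroup.closure_induction with
    | mem s hs => exact h s hs t ht
    | one => rw [commutatorElement_one_left]; exact one_mem _
    | mul u v _ _ hu hv => rw [hl]; exact mul_mem hu hv
    | inv u _ hu => rw [hinv]; exact inv_mem hu
  have h2 : ∀ t, t ∈ Subgroup.closure S → ⁅t, a⁆ ∈ K := by
    intro t ht
    induction ht using Subgroup.closure_induction with
    | mem s hs => rw [← commutatorElement_inv]; exact inv_mem (h1 s hs a)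
    | one => rw [commutatorElement_one_left]; exact one_mem _
    | mul u v _ _ hu hv => rw [hl]; exact mul_mem hu hv
    | inv u _ hu => rw [hinv]; exact inv_mem hu
  rw [← commutatorElement_inv]
  exact inv_mem (h2 b (hS.ge (Subgroup.mem_top b)))

include hX hA hXA hscn in
theorem card_of_center_four (hsp : Cfsg.IsSpecial 2 X) (hexp : ∀ z ∈ Subgroup.center X, z * z = 1)
    (hZ4 : Nat.card (Subgroup.center X) = 4) :
    Nat.card X = 64 ∧ Nat.card {x : X // orderOf x = 2} = 3 ∧
      ∀ x : X, orderOf x = 2 → x ∈ Subgroup.center X := by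
  classical
  haveI : Fact (Nat.Prime 2) := ⟨Nat.prime_two⟩
  haveI := Fintype.ofFinite X
  obtain ⟨-, hΦ, hD⟩ := hsp
  set Z := Subgroup.center X with hZdef
  have hcZ : ∀ a b : X, ⁅a, b⁆ ∈ Z := fun a b =>
    hD ▸ Subgroup.commutator_mem_commutator (Subgroup.mem_top a) (Subgroup.mem_top b)
  have hsqZ : ∀ x : X, x * x ∈ Z := fun x => hΦ ▸ (pow_two x) ▸ PGroup.pow_mem_frattini hX x
  have hinvol : ∀ x : X, x * x = 1 → x ∈ Z := fun x hx =>
    invol_mem hX hscn le_rfl hexp hZ4 hx fun y => hcZ y x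
  have hcen : ∀ x : X, orderOf x = 2 → x ∈ Z := fun x hx => hinvol x (by
    rw [← pow_two, ← hx]; exact pow_orderOf_eq_one x)
  refine ⟨?_, ?_, hcen⟩
  swap
  · have e : Nat.card {x : X // orderOf x = 2} = Nat.card {z : Z // z ≠ 1} := by
      refine Nat.card_congr
        { toFun := fun x => ⟨⟨x, hcen x x.2⟩, fun h => ?_⟩
          invFun := fun z => ⟨z.1, orderOf_eq_prime (by rw [pow_two]; exact hexp _ z.1.2)
            fun h => z.2 (Subtype.ext h)⟩
          left_inv := fun x => rfl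
          right_inv := fun z => rfl }
      have h1 := x.2
      rw [show (x : X) = 1 from congrArg Subtype.val h, orderOf_one] at h1
      omega
    rw [e, Nat.card_eq_fintype_card, Fintype.card_subtype_compl, Fintype.card_subtype_eq,
      ← Nat.card_eq_fintype_card, hZ4]
  have hle : Nat.card X ≤ 64 := by
    have h := Squaring.card_mul_sq_le Z hsqZ le_rfl hexp ⊥ bot_le
    rw [Subgroup.card_bot, one_pow, mul_one, hZ4] at h
    have : Nat.card {x : X // x * x ∈ (⊥ : Subgroup X)} ≤ 4 := by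
      refine hZ4 ▸ Nat.card_le_card_of_injective (fun x => ⟨x.1, hinvol x.1 (Subgroup.mem_bot.mp x.2)⟩)
        fun x y h => Subtype.ext (congrArg Subtype.val h :)
    omega
  obtain ⟨k, hk⟩ := PGroup.exists_card_eq_pow hX
  have hne : Z ≠ ⊤ := fun h => by
    have h1 : _root_.commutator X = ⊥ := by
      rw [_root_.commutator_def, Subgroup.commutator_eq_bot_iff_le_centralizer]
      intro a _
      exact Subgroup.mem_centralizer_iff.mpr fun b _ =>
        Subgroup.mem_center_iff.mp (show a ∈ Z from h ▸ Subgroup.mem_top a) b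
    rw [h1] at hD
    rw [← hD, Subgroup.card_bot] at hZ4
    omega
  have hsmall : ∀ c : X, c * c = 1 → (∀ a b : X, ⁅a, b⁆ ∈ Subgroup.zpowers c) → False := by
    intro c hcc h
    have h1 : Z ≤ Subgroup.zpowers c := by
      rw [← hD, _root_.commutator_def, Subgroup.commutator_le]
      exact fun a _ b _ => h a b
    have h2 := Subgroup.card_le_of_le h1
    rw [hZ4, Nat.card_zpowers] at h2
    have := orderOf_le_of_pow_eq_one two_pos (show c ^ 2 = 1 by rw [pow_two, hcc])
    omega
  obtain ⟨x, -, hx⟩ := SetLike.exists_of_lt (lt_top_iff_ne_top.mpr hne)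
  set Z1 := Z ⊔ Subgroup.zpowers x with hZ1
  have h8 : 8 ≤ Nat.card Z1 := by
    have := PGroup.mul_card_le_of_lt hX (lt_of_le_of_ne (le_sup_left : Z ≤ Z1) fun h =>
      hx (h.ge (Subgroup.mem_sup_right (Subgroup.mem_zpowers x))))
    rw [hZ4] at this
    omega
  have hgen1 : Subgroup.closure ((Z : Set X) ∪ {x}) = Z1 := by
    rw [Subgroup.closure_union, Subgroup.closure_eq, ← Subgroup.zpowers_eq_closure]
  have hne1 : Z1 ≠ ⊤ := fun h => hsmall 1 (mul_one 1) fun a b =>
    comm_mem_of_gen hcZ _ _ (hgen1.trans h) (by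
      rintro s (hs | rfl) t (ht | rfl)
      all_goals first
        | (rw [commutatorElement_self]; exact one_mem _)
        | (rw [commutatorElement_eq_one_iff_mul_comm.mpr (Subgroup.mem_center_iff.mp ht _)]; exact one_mem _)
        | (rw [commutatorElement_eq_one_iff_mul_comm.mpr (Subgroup.mem_center_iff.mp hs _).symm]; exact one_mem _))
      a b
  obtain ⟨y, -, hy⟩ := SetLike.exists_of_lt (lt_top_iff_ne_top.mpr hne1)
  set Z2 := Z1 ⊔ Subgroup.zpowers y with hZ2
  have h16 : 16 ≤ Nat.card Z2 := by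
    have := PGroup.mul_card_le_of_lt hX (lt_of_le_of_ne (le_sup_left : Z1 ≤ Z2) fun h =>
      hy (h.ge (Subgroup.mem_sup_right (Subgroup.mem_zpowers y))))
    exact le_trans (show 16 ≤ 2 * Nat.card Z1 by omega) this
  have hgen2 : Subgroup.closure ((Z : Set X) ∪ {x, y}) = Z2 := by
    rw [Subgroup.closure_union, Subgroup.closure_eq, show ({x, y} : Set X) = {x} ∪ {y} from rfl,
      Subgroup.closure_union, ← Subgroup.zpowers_eq_closure, ← Subgroup.zpowers_eq_closure, ← sup_assoc]
  have hZl : ∀ z ∈ Z, ∀ u : X, ⁅z, u⁆ = 1 := fun z hz u =>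
    commutatorElement_eq_one_iff_mul_comm.mpr (Subgroup.mem_center_iff.mp hz u).symm
  have hZr : ∀ z ∈ Z, ∀ u : X, ⁅u, z⁆ = 1 := fun z hz u =>
    commutatorElement_eq_one_iff_mul_comm.mpr (Subgroup.mem_center_iff.mp hz u)
  have hne2 : Z2 ≠ ⊤ := fun h => hsmall ⁅x, y⁆ (hexp _ (hcZ x y)) fun a b =>
    comm_mem_of_gen hcZ _ _ (hgen2.trans h) (by
      intro s hs t ht
      rcases hs with hs | hs
      · rw [hZl s hs]; exact one_mem _
      rcases ht with ht | ht
      · rw [hZr t ht]; exact one_mem _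
      rcases hs with rfl | rfl <;> rcases ht with rfl | rfl
      · rw [commutatorElement_self]; exact one_mem _
      · exact Subgroup.mem_zpowers _
      · rw [Subgroup.mem_zpowers_iff]; exact ⟨-1, by rw [zpow_neg_one, commutatorElement_inv]⟩
      · rw [commutatorElement_self]; exact one_mem _) a b
  obtain ⟨z, -, hz⟩ := SetLike.exists_of_lt (lt_top_iff_ne_top.mpr hne2)
  set Z3 := Z2 ⊔ Subgroup.zpowers z with hZ3
  have h32 : 32 ≤ Nat.card Z3 := by
    have := PGroup.mul_card_le_of_lt hX (lt_of_le_of_ne (le_sup_left : Z2 ≤ Z3) fun h =>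
      hz (h.ge (Subgroup.mem_sup_right (Subgroup.mem_zpowers z))))
    exact le_trans (show 32 ≤ 2 * Nat.card Z2 by omega) this
  have hcard32 : 32 ≤ Nat.card X := h32.trans (Subgroup.card_le_card_group _)
  rw [hk] at hle hcard32 ⊢
  have hk6 : k ≤ 6 := (Nat.pow_le_pow_iff_right (le_refl 2)).mp hle
  have hk5 : 5 ≤ k := (Nat.pow_le_pow_iff_right (le_refl 2)).mp hcard32
  rcases (show k = 5 ∨ k = 6 by omega) with rfl | rfl
  swap
  · rfl
  exfalso
  have htop : Z3 = ⊤ := Subgroup.eq_top_of_le_card _ (by rw [hk]; exact h32)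
  -- an abelian subgroup of index two
  have hM : ∀ p q w : X, ⁅p, q⁆ = 1 →
      x ∈ Subgroup.closure ((Z : Set X) ∪ {p, q, w}) → y ∈ Subgroup.closure ((Z : Set X) ∪ {p, q, w}) →
      z ∈ Subgroup.closure ((Z : Set X) ∪ {p, q, w}) → False := by
    intro p q w hpq h1 h2 h3
    set M := Subgroup.closure ((Z : Set X) ∪ {p, q}) with hMdef
    have hZM : Z ≤ M := fun u hu => Subgroup.subset_closure (Or.inl hu)
    have hMn : M.Normal := ⟨fun m hm g => by
      rw [show g * m * g⁻¹ = ⁅g, m⁆ * m by rw [commutatorElement_def]; group]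
      exact mul_mem (hZM (hcZ g m)) hm⟩
    haveI := hMn
    have hMab : ∀ u ∈ M, ∀ v ∈ M, u * v = v * u := by
      have hgen : ∀ u ∈ (Z : Set X) ∪ {p, q}, ∀ v ∈ (Z : Set X) ∪ {p, q}, u * v = v * u := by
        intro u hu v hv
        rcases hu with hu | hu
        · exact (Subgroup.mem_center_iff.mp hu v).symm
        rcases hv with hv | hv
        · exact Subgroup.mem_center_iff.mp hv u
        have e := commutatorElement_eq_one_iff_mul_comm.mp hpq
        rcases hu with rfl | rfl <;> rcases hv with rfl | rfl <;> first | rfl | exact e | exact e.symm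
      haveI : IsMulCommutative M := Subgroup.isMulCommutative_closure hgen
      exact fun u hu v hv => setLike_mul_comm hu hv
    have hsup : M ⊔ Subgroup.zpowers w = ⊤ := by
      have hle1 : Subgroup.closure ((Z : Set X) ∪ {p, q, w}) ≤ M ⊔ Subgroup.zpowers w := by
        rw [Subgroup.closure_le]
        rintro u (hu | rfl | rfl | rfl)
        · exact Subgroup.mem_sup_left (hZM hu)
        · exact Subgroup.mem_sup_left (Subgroup.subset_closure (Or.inr (Or.inl rfl)))
        · exact Subgroup.mem_sup_left (Subgroup.subset_closure (Or.inr (Or.inr rfl)))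
        · exact Subgroup.mem_sup_right (Subgroup.mem_zpowers _)
      rw [eq_top_iff, ← htop, hZ3, hZ2, hZ1]
      exact sup_le (sup_le (sup_le (fun u hu => Subgroup.mem_sup_left (hZM hu))
        (Subgroup.zpowers_le.mpr (hle1 h1))) (Subgroup.zpowers_le.mpr (hle1 h2))) (Subgroup.zpowers_le.mpr (hle1 h3))
    have hwM : w ∉ M := by
      intro hw
      rw [sup_eq_left.mpr (Subgroup.zpowers_le.mpr hw)] at hsup
      have : Subgroup.center X = ⊤ := eq_top_iff.mpr fun u _ => Subgroup.mem_center_iff.mpr fun v =>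
        hMab v (hsup ▸ Subgroup.mem_top v) u (hsup ▸ Subgroup.mem_top u)
      exact hne this
    have hidx : M.index = 2 := by
      refine Subgroup.index_eq_two_iff.mpr ⟨w, fun b => ?_⟩
      have hb : b ∈ M ⊔ Subgroup.zpowers w := hsup ▸ Subgroup.mem_top b
      obtain ⟨m, hm, u, hu, rfl⟩ := Subgroup.mem_sup_of_normal_left.mp hb
      obtain ⟨e, rfl⟩ := Subgroup.mem_zpowers_iff.mp hu
      have hw2 : ∀ j : ℤ, w ^ (2 * j) ∈ M := fun j => by
        rw [zpow_mul]; exact zpow_mem (by rw [zpow_two]; exact hZM (hsqZ w)) _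
      rcases Int.even_or_odd' e with ⟨j, rfl | rfl⟩
      · refine Or.inr ⟨mul_mem hm (hw2 j), fun h => hwM ?_⟩
        have := mul_mem (inv_mem (mul_mem hm (hw2 j))) h
        rwa [inv_mul_cancel_left] at this
      · refine Or.inl ⟨?_, fun h => hwM ?_⟩
        · rw [mul_assoc, ← zpow_add_one, show (2 * j + 1 + 1 : ℤ) = 2 * (j + 1) by ring]
          exact mul_mem hm (hw2 _)
        · have := mul_mem (inv_mem (mul_mem hm (hw2 j))) h
          rwa [show (m * w ^ (2 * j))⁻¹ * (m * w ^ (2 * j + 1)) = w by rw [zpow_add_one]; group] at this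
    refine no_index_two hA hXA M hidx fun φ _ m hm => ?_
    by_contra hφm
    set M' := M.map φ.toMonoidHom with hM'
    have hidx' : M'.index = 2 := (M.index_map_equiv φ).trans hidx
    have hM'ab : ∀ u ∈ M', ∀ v ∈ M', u * v = v * u := by
      rintro _ ⟨u, hu, rfl⟩ _ ⟨v, hv, rfl⟩
      rw [← map_mul, ← map_mul, hMab u hu v hv]
    have hlt : M < M ⊔ M' := lt_of_le_of_ne le_sup_left fun h =>
      hφm (h.ge (Subgroup.mem_sup_right ⟨m, hm, rfl⟩))
    have hMcard := M.card_mul_index
    rw [hidx, hk] at hMcard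
    have hsupM : M ⊔ M' = ⊤ := Subgroup.eq_top_of_le_card _ (by
      rw [hk]; have := PGroup.mul_card_le_of_lt hX hlt; omega)
    have hinf : M ⊓ M' ≤ Z := fun u hu => Subgroup.mem_center_iff.mpr fun v => by
      have hle2 : M ⊔ M' ≤ Subgroup.centralizer ({u} : Set X) := sup_le
        (fun a ha => Subgroup.mem_centralizer_singleton_iff.mpr (hMab a ha u hu.1))
        (fun a ha => Subgroup.mem_centralizer_singleton_iff.mpr (hM'ab a ha u hu.2))
      exact Subgroup.mem_centralizer_singleton_iff.mp (hle2 (hsupM ▸ Subgroup.mem_top v))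
    have h1' : (M ⊓ M').index ≤ M.index * M'.index := Subgroup.index_inf_le
    rw [hidx, hidx'] at h1'
    have h2' := (M ⊓ M').card_mul_index
    have h3' := Subgroup.card_le_of_le hinf
    rw [hZ4] at h3'
    rw [hk] at h2'
    have := Nat.mul_le_mul h3' h1'
    omega
  have hl : ∀ u v w : X, ⁅u * v, w⁆ = ⁅u, w⁆ * ⁅v, w⁆ := fun u v w => by
    rw [comm_mul_left', Subgroup.mem_center_iff.mp (hcZ v w) u, mul_inv_cancel_right,
      Subgroup.mem_center_iff.mp (hcZ v w)]
  have hr : ∀ u v w : X, ⁅u, v * w⁆ = ⁅u, v⁆ * ⁅u, w⁆ := fun u v w => by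
    rw [comm_mul_right', Subgroup.mem_center_iff.mp (hcZ u w) v, mul_inv_cancel_right]
  have hs : ∀ u v : X, ⁅v, u⁆ = ⁅u, v⁆ := fun u v => by
    rw [← commutatorElement_inv, inv_eq_of_mul_eq_one_right (hexp _ (hcZ u v))]
  have hmem : ∀ (p q w u : X), u ∈ ({p, q, w} : Set X) → u ∈ Subgroup.closure ((Z : Set X) ∪ {p, q, w}) :=
    fun p q w u hu => Subgroup.subset_closure (Or.inr hu)
  letI : CommGroup Z := { (inferInstance : Group Z) with
    mul_comm := fun u v => Subtype.ext (Subgroup.mem_center_iff.mp v.2 u) }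
  set a : Z := ⟨⁅x, y⁆, hcZ x y⟩ with ha
  set b : Z := ⟨⁅x, z⁆, hcZ x z⟩ with hb
  set c : Z := ⟨⁅y, z⁆, hcZ y z⟩ with hc
  have hsqs : ∀ u : Z, u * u = 1 := fun u => Subtype.ext (hexp u u.2)
  by_cases ha1 : a = 1
  · exact hM x y z (congrArg Subtype.val ha1) (hmem x y z x (by simp)) (hmem x y z y (by simp))
      (hmem x y z z (by simp))
  by_cases hb1 : b = 1
  · exact hM x z y (congrArg Subtype.val hb1) (hmem x z y x (by simp)) (hmem x z y y (by simp))
      (hmem x z y z (by simp))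
  by_cases hab : a = b
  · refine hM x (y * z) y ?_ (hmem x _ y x (by simp)) (hmem x _ y y (by simp)) ?_
    · rw [hr]; exact (congrArg Subtype.val (show a * b = 1 by rw [hab, hsqs]) :)
    · have := mul_mem (inv_mem (hmem x (y * z) y y (by simp))) (hmem x (y * z) y (y * z) (by simp))
      rwa [inv_mul_cancel_left] at this
  rcases four_cases hZ4 hsqs ha1 hb1 hab c with e | e | e | e
  · exact hM y z x (congrArg Subtype.val e) (hmem y z x x (by simp)) (hmem y z x y (by simp))
      (hmem y z x z (by simp))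
  · refine hM y (x * z) x ?_ (hmem y _ x x (by simp)) (hmem y _ x y (by simp)) ?_
    · rw [hr, hs x y]; exact (congrArg Subtype.val (show a * c = 1 by rw [e, hsqs]) :)
    · have := mul_mem (inv_mem (hmem y (x * z) x x (by simp))) (hmem y (x * z) x (x * z) (by simp))
      rwa [inv_mul_cancel_left] at this
  · refine hM z (x * y) x ?_ (hmem z _ x x (by simp)) ?_ (hmem z _ x z (by simp))
    · rw [hr, hs x z, hs y z]; exact (congrArg Subtype.val (show b * c = 1 by rw [e, hsqs]) :)
    · have := mul_mem (inv_mem (hmem z (x * y) x x (by simp))) (hmem z (x * y) x (x * y) (by simp))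
      rwa [inv_mul_cancel_left] at this
  · refine hM (x * y) (x * z) x ?_ (hmem _ _ x x (by simp)) ?_ ?_
    · rw [hl, hr, hr, commutatorElement_self, one_mul, hs x y]
      exact (congrArg Subtype.val (show b * (a * c) = 1 by
        rw [e, ← mul_assoc a, hsqs, one_mul, hsqs]) :)
    · have := mul_mem (inv_mem (hmem (x * y) (x * z) x x (by simp))) (hmem (x * y) (x * z) x (x * y) (by simp))
      rwa [inv_mul_cancel_left] at this
    · have := mul_mem (inv_mem (hmem (x * y) (x * z) x x (by simp))) (hmem (x * y) (x * z) x (x * z) (by simp))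
      rwa [inv_mul_cancel_left] at this

end

end Cfsg.Agent.OddAutTwo
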