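import Cfsg.Agent.Lib.OddAutTwo.Basic

/-!
# Squares lie in the central four group

If the odd group `A` with `X = [X, A]` fixes only the identity in the four group `Ω₁(Z(X))`, and
normal elementary abelian subgroups have order at most four, then every square lies in `Ω₁(Z(X))`
(`sq_mem_of_free`). The obstruction is an invariant normal abelian subgroup `D` of exponent `2 ^ n`
(`Tower`): it is self-centralizing and `n = 2`.
-/

set_option autoImplicit false
set_option linter.style.haveILetI false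
set_option linter.unusedSectionVars false

open scoped commutatorElement

namespace Cfsg.Agent.OddAutTwo

variable {X : Type*} [Group X] {A : Subgroup (MulAut X)}

local notation "W" => omegaCenter X

instance omegaCommGroup : CommGroup (omegaCenter X) :=
  { (inferInstance : Group (omegaCenter X)) with
    mul_comm := fun a b => Subtype.ext (Subgroup.mem_center_iff.mp b.2.1 a) }

/-- The action of `A` on the involutions of the centre. -/
def omegaAut (A : Subgroup (MulAut X)) : A →* MulAut (omegaCenter X) :=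
  resAut A (omegaCenter X) fun φ _ _ h => omegaCenter_inv φ h

theorem omega_sq (w : W) : w * w = 1 := Subtype.ext w.2.2

theorem omega_comm {w : X} (hw : w ∈ W) (y : X) : y * w = w * y := Subgroup.mem_center_iff.mp hw.1 y

theorem comm_omega {w : X} (hw : w ∈ W) (y : X) : ⁅y, w⁆ = 1 :=
  commutatorElement_eq_one_iff_mul_comm.mpr (omega_comm hw y)

theorem comm_mul_right' (x a b : X) : ⁅x, a * b⁆ = ⁅x, a⁆ * (a * ⁅x, b⁆ * a⁻¹) := by
  simp only [commutatorElement_def]; group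

theorem comm_mul_left' (x y d : X) : ⁅x * y, d⁆ = x * ⁅y, d⁆ * x⁻¹ * ⁅x, d⁆ := by
  simp only [commutatorElement_def]; group

section

variable [Finite X] (hX : IsPGroup 2 X) (hA : Odd (Nat.card A))
  (hXA : Subgroup.closure {g : X | ∃ x : X, ∃ a ∈ A, g = x⁻¹ * a x} = ⊤)
  (hscn : ¬ ∃ B : Subgroup X, B.Normal ∧ Subgroup.centralizer (B : Set X) = B ∧
      ∃ E : Subgroup X, E ≤ B ∧ Cfsg.IsElementaryAbelian 2 E ∧ Nat.card E = 8)
  (hW4 : Nat.card (omegaCenter X) = 4)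
  (hfree : ∀ s ∈ omegaCenter X, (∀ φ ∈ A, φ s = s) → s = 1)

include hfree in
theorem omegaAut_free : ∀ s : W, (∀ φ : A, omegaAut A φ s = s) → s = 1 :=
  fun s h => Subtype.ext (hfree s s.2 fun φ hφ => congrArg Subtype.val (h ⟨φ, hφ⟩))

/-- A maximal invariant normal abelian subgroup containing `Ω₁(Z(X))`, of exponent `2 ^ n`. -/
structure Tower (A : Subgroup (MulAut X)) (D : Subgroup X) (n : ℕ) : Prop where
  comm : ∀ a ∈ D, ∀ b ∈ D, a * b = b * a
  inv : ∀ φ ∈ A, ∀ x ∈ D, φ x ∈ D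
  omega_le : omegaCenter X ≤ D
  omega : ∀ d ∈ D, d * d = 1 → d ∈ omegaCenter X
  max : ∀ B : Subgroup X, B.Normal → (∀ a ∈ B, ∀ b ∈ B, a * b = b * a) →
    (∀ φ ∈ A, ∀ x ∈ B, φ x ∈ B) → D ≤ B → B ≤ D
  two_le : 2 ≤ n
  exp : ∀ d ∈ D, d ^ 2 ^ n = 1
  root : ∀ j < n, ∀ w ∈ omegaCenter X, ∃ e ∈ D, e ^ 2 ^ j = w

variable {D : Subgroup X} [D.Normal] {n : ℕ}

theorem comm_mem (x : X) {d : X} (hd : d ∈ D) : ⁅x, d⁆ ∈ D := by
  rw [commutatorElement_def]
  exact mul_mem (Subgroup.Normal.conj_mem inferInstance d hd x) (inv_mem hd)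

theorem comm_sq_eq (hc : ∀ a ∈ D, ∀ b ∈ D, a * b = b * a) (x : X) {a b : X} (ha : a ∈ D) (hb : b ∈ D) :
    ⁅x, a * b⁆ = ⁅x, a⁆ * ⁅x, b⁆ := by
  rw [comm_mul_right', hc a ha _ (comm_mem x hb), mul_inv_cancel_right]

theorem Tower.root_one (T : Tower A D n) {w : X} (hw : w ∈ W) : ∃ e ∈ D, e * e = w := by
  obtain ⟨e, he, h⟩ := T.root 1 (lt_of_lt_of_le one_lt_two T.two_le) w hw
  exact ⟨e, he, by rw [← pow_two]; simpa using h⟩

theorem Tower.sqrt (T : Tower A D n) : ∀ j, j + 1 ≤ n → ∀ d ∈ D, d ^ 2 ^ j = 1 → ∃ e ∈ D, e * e = d := by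
  intro j
  induction j with
  | zero => intro _ d _ hd; exact ⟨1, one_mem _, by rw [mul_one]; simpa using hd.symm⟩
  | succ j ih =>
    intro hj d hd hdj
    have hw : d ^ 2 ^ j ∈ W := T.omega _ (pow_mem hd _) (by
      rw [← pow_add, ← two_mul, mul_comm, ← pow_succ, hdj])
    obtain ⟨e, he, hew⟩ := T.root (j + 1) (by omega) _ hw
    obtain ⟨f, hf, hfd⟩ := ih (by omega) (d * (e * e)⁻¹) (mul_mem hd (inv_mem (mul_mem he he))) (by
      rw [(show Commute d (e * e)⁻¹ from T.comm _ hd _ (inv_mem (mul_mem he he))).mul_pow, inv_pow,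
        ← pow_two, ← pow_mul, ← pow_succ', hew, mul_inv_cancel])
    refine ⟨f * e, mul_mem hf he, ?_⟩
    rw [mul_assoc, ← mul_assoc e, T.comm e he f hf, mul_assoc f e, ← mul_assoc, hfd, inv_mul_cancel_right]

include hX hA hXA hscn hW4 hfree in
theorem Tower.self_centralizing (T : Tower A D n) : Subgroup.centralizer (D : Set X) ≤ D := by
  classical
  haveI : Fact (Nat.Prime 2) := ⟨Nat.prime_two⟩
  haveI := Fintype.ofFinite A
  by_contra hnot
  set C := Subgroup.centralizer (D : Set X) with hC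
  haveI : C.Normal := Subgroup.normal_centralizer
  have hDC : D ≤ C := fun a ha => Subgroup.mem_centralizer_iff.mpr fun b hb => T.comm b hb a ha
  have hCD : ∀ u ∈ C, ∀ d ∈ D, d * u = u * d := fun u hu d hd => Subgroup.mem_centralizer_iff.mp hu d hd
  have hcu : ∀ u ∈ C, ∀ d ∈ D, ⁅u, d⁆ = 1 := fun u hu d hd =>
    commutatorElement_eq_one_iff_mul_comm.mpr (hCD u hu d hd).symm
  let U : Subgroup X :=
    { carrier := {u | u ∈ C ∧ u * u ∈ D ∧ ∀ x : X, ⁅x, u⁆ ∈ D}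
      one_mem' := ⟨one_mem _, by simp, fun x => by simp⟩
      mul_mem' := fun {u v} hu hv => by
        refine ⟨mul_mem hu.1 hv.1, ?_, fun x => ?_⟩
        · rw [show u * v * (u * v) = u * (⁅v, u⁆ * u * v) * v by rw [commutatorElement_def]; group,
            show u * (⁅v, u⁆ * u * v) * v = u * ⁅v, u⁆ * u⁻¹ * (u * u) * (v * v) by group]
          exact mul_mem (mul_mem (Subgroup.Normal.conj_mem inferInstance _ (hu.2.2 v) u) hu.2.1) hv.2.1
        · rw [comm_mul_right']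
          exact mul_mem (hu.2.2 x) (Subgroup.Normal.conj_mem inferInstance _ (hv.2.2 x) u)
      inv_mem' := fun {u} hu => by
        refine ⟨inv_mem hu.1, by rw [← mul_inv_rev]; exact inv_mem hu.2.1, fun x => ?_⟩
        rw [show ⁅x, u⁻¹⁆ = u⁻¹ * ⁅x, u⁆⁻¹ * (u⁻¹)⁻¹ by simp only [commutatorElement_def]; group]
        exact Subgroup.Normal.conj_mem inferInstance _ (inv_mem (hu.2.2 x)) _ }
  have hDU : D ≤ U := fun d hd => ⟨hDC hd, mul_mem hd hd, fun x => comm_mem x hd⟩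
  haveI : U.Normal := ⟨fun u hu x => by
    rw [show x * u * x⁻¹ = ⁅x, u⁆ * u by rw [commutatorElement_def]; group]
    exact U.mul_mem (hDU (hu.2.2 x)) hu⟩
  have hUinv : ∀ φ ∈ A, ∀ u ∈ U, φ u ∈ U := fun φ hφ u hu => by
    refine ⟨Subgroup.mem_centralizer_iff.mpr fun d hd => ?_, by rw [← map_mul]; exact T.inv φ hφ _ hu.2.1,
      fun x => ?_⟩
    · obtain ⟨d', rfl⟩ := φ.surjective d
      have hd' : d' ∈ D := by simpa using T.inv φ⁻¹ (inv_mem hφ) _ hd
      rw [← map_mul, ← map_mul, hCD u hu.1 d' hd']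
    · obtain ⟨x', rfl⟩ := φ.surjective x
      rw [← map_commutatorElement]; exact T.inv φ hφ _ (hu.2.2 x')
  obtain ⟨u0, hu0U, hu0D⟩ : ∃ u, u ∈ U ∧ u ∉ D := by
    obtain ⟨K, hKn, hDK, hKC, hK, hKD⟩ := PGroup.exists_normal_between hX
      (lt_of_le_of_ne hDC fun h => hnot h.ge)
    obtain ⟨u, huK, huD⟩ := SetLike.exists_of_lt (lt_of_le_of_ne hDK fun h => by
      rw [← h] at hK; have := Nat.card_pos (α := D); omega)
    refine ⟨u, ⟨hKC huK, ?_, fun x => ?_⟩, huD⟩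
    · have hidx : (D.subgroupOf K).index = 2 := by
        have h1 := (D.subgroupOf K).card_mul_index
        rw [Nat.card_congr (Subgroup.subgroupOfEquivOfLe hDK).toEquiv, hK, mul_comm 2] at h1
        exact Nat.eq_of_mul_eq_mul_left Nat.card_pos h1
      exact Subgroup.mul_self_mem_of_index_two hidx ⟨u, huK⟩
    · rw [← commutatorElement_inv]
      exact inv_mem (hKD (Subgroup.commutator_mem_commutator huK (Subgroup.mem_top x)))
  -- commutators in `U` lie in the four group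
  have hcW : ∀ u ∈ U, ∀ v ∈ U, ⁅v, u⁆ ∈ W := fun u hu v hv => by
    refine T.omega _ (hu.2.2 v) ?_
    have h := hcu v hv.1 _ hu.2.1
    rwa [comm_mul_right', ← hCD u hu.1 _ (hu.2.2 v), mul_inv_cancel_right] at h
  obtain ⟨m, hm⟩ : ∃ m, n = m + 2 := ⟨n - 2, by have := T.two_le; omega⟩
  set N := 2 ^ (n - 1) with hN
  have hN2 : ∀ w ∈ W, w ^ N = 1 := fun w hw => by
    rw [hN, hm, show m + 2 - 1 = 1 + m by omega, pow_add, pow_one, pow_mul, pow_two, hw.2, one_pow]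
  have hsW : ∀ u ∈ U, (u * u) ^ N ∈ W := fun u hu => T.omega _ (pow_mem hu.2.1 _) (by
    rw [← pow_add, hN, ← two_mul, ← pow_succ', show n - 1 + 1 = n by omega]; exact T.exp _ hu.2.1)
  let s : U →* W := MonoidHom.mk' (fun u => ⟨((u : X) * u) ^ N, hsW u u.2⟩) fun u v => Subtype.ext (by
    obtain ⟨u, hu⟩ := u
    obtain ⟨v, hv⟩ := v
    show (u * v * (u * v)) ^ N = (u * u) ^ N * (v * v) ^ N
    have hc := hcW u hu v hv
    rw [show u * v * (u * v) = u * (⁅v, u⁆ * u * v) * v by rw [commutatorElement_def]; group,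
      show u * (⁅v, u⁆ * u * v) * v = (u * ⁅v, u⁆) * (u * (v * v)) by group, omega_comm hc u,
      show ⁅v, u⁆ * u * (u * (v * v)) = ⁅v, u⁆ * ((u * u) * (v * v)) by group,
      (show Commute ⁅v, u⁆ (u * u * (v * v)) from (omega_comm hc _).symm).mul_pow, hN2 _ hc, one_mul,
      (show Commute (u * u) (v * v) from T.comm _ hu.2.1 _ hv.2.1).mul_pow])
  have hker : ∀ u : U, s u = 1 → (u : X) ∈ D := by
    rintro ⟨u, hu⟩ h
    have h1 : (u * u) ^ N = 1 := congrArg Subtype.val h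
    obtain ⟨e, he, hee⟩ := T.sqrt (n - 1) (by omega) _ hu.2.1 (by rw [← hN]; exact h1)
    obtain ⟨v, hv⟩ : ∃ v, v = u * e⁻¹ := ⟨_, rfl⟩
    have hvU : v ∈ U := hv ▸ U.mul_mem hu (hDU (inv_mem he))
    have hv2 : v * v = 1 := by
      rw [hv, show u * e⁻¹ * (u * e⁻¹) = u * (e⁻¹ * u) * e⁻¹ by group, hCD u hu.1 _ (inv_mem he),
        ← mul_assoc, ← hee]
      group
    have hvW : ∀ x : X, ⁅x, v⁆ ∈ W := fun x => by
      refine T.omega _ (hvU.2.2 x) ?_
      set f := ⁅x, v⁆ with hf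
      have h2 : (f * v) * (f * v) = 1 := by
        rw [show f * v = x * v * x⁻¹ by rw [hf, commutatorElement_def]; group,
          show x * v * x⁻¹ * (x * v * x⁻¹) = x * (v * v) * x⁻¹ by group, hv2, mul_one, mul_inv_cancel]
      rwa [show f * v * (f * v) = f * (v * f) * v by group, ← hCD v hvU.1 f (hvU.2.2 x), ← mul_assoc,
        mul_assoc (f * f), hv2, mul_one] at h2
    have hvD : v ∈ D := T.omega_le (invol_mem hX hscn omegaCenter_le (fun z hz => hz.2) hW4 hv2 hvW)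
    have := mul_mem hvD he
    rwa [hv, inv_mul_cancel_right] at this
  -- two generators of `U` modulo `D`
  have ha : s ⟨u0, hu0U⟩ ≠ 1 := fun h => hu0D (hker _ h)
  obtain ⟨φ, hφ⟩ : ∃ φ : A, omegaAut A φ (s ⟨u0, hu0U⟩) ≠ s ⟨u0, hu0U⟩ := by
    by_contra h
    push Not at h
    exact ha (omegaAut_free hfree _ h)
  set v0 := (φ : MulAut X) u0 with hv0
  have hv0U : v0 ∈ U := hUinv _ φ.2 _ hu0U
  have hsv : s ⟨v0, hv0U⟩ = omegaAut A φ (s ⟨u0, hu0U⟩) := Subtype.ext (by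
    show (v0 * v0) ^ N = (φ : MulAut X) ((u0 * u0) ^ N)
    rw [map_pow, map_mul])
  have hb : s ⟨v0, hv0U⟩ ≠ 1 := by
    rw [hsv]
    exact fun h => ha ((omegaAut A φ).injective (h.trans (map_one _).symm))
  have hab : s ⟨u0, hu0U⟩ ≠ s ⟨v0, hv0U⟩ := fun h => hφ (hsv ▸ h.symm)
  set c := ⁅u0, v0⁆ with hcdef
  have hcW' : c ∈ W := hcW _ hv0U _ hu0U
  have hvu : ⁅v0, u0⁆ = c := by rw [← commutatorElement_inv, inv_eq_of_mul_eq_one_right hcW'.2]
  have hdec : ∀ y ∈ U, ∃ d ∈ D, y = d ∨ y = d * u0 ∨ y = d * v0 ∨ y = d * (u0 * v0) := by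
    intro y hy
    have key : ∀ z : U, s ⟨y, hy⟩ = s z → y * (z : X)⁻¹ ∈ D := fun z hz =>
      hker (⟨y, hy⟩ * z⁻¹) (by rw [map_mul, map_inv, hz, mul_inv_cancel])
    rcases four_cases hW4 omega_sq ha hb hab (s ⟨y, hy⟩) with h | h | h | h
    · exact ⟨y, hker _ h, Or.inl rfl⟩
    · exact ⟨_, key _ h, Or.inr (Or.inl (inv_mul_cancel_right _ _).symm)⟩
    · exact ⟨_, key _ h, Or.inr (Or.inr (Or.inl (inv_mul_cancel_right _ _).symm))⟩
    · rw [← map_mul] at h
      exact ⟨_, key _ h, Or.inr (Or.inr (Or.inr (inv_mul_cancel_right _ _).symm))⟩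
  have hred : ∀ d ∈ D, ∀ z ∈ U, ∀ w ∈ U, ⁅d * z, w⁆ = ⁅z, w⁆ := fun d hd z hz w hw => by
    rw [comm_mul_left', omega_comm (hcW w hw z hz) d, mul_inv_cancel_right, ← commutatorElement_inv w d,
      hcu w hw.1 d hd, inv_one, mul_one]
  have hcc : c * c = 1 := hcW'.2
  have hbase : ∀ y ∈ U, (⁅y, u0⁆ = 1 ∨ ⁅y, u0⁆ = c) ∧ (⁅y, v0⁆ = 1 ∨ ⁅y, v0⁆ = c) := by
    intro y hy
    obtain ⟨d, hd, rfl | rfl | rfl | rfl⟩ := hdec y hy
    · exact ⟨Or.inl (by rw [← commutatorElement_inv, hcu u0 hu0U.1 _ hd, inv_one]),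
        Or.inl (by rw [← commutatorElement_inv, hcu v0 hv0U.1 _ hd, inv_one])⟩
    · rw [hred d hd _ hu0U _ hu0U, hred d hd _ hu0U _ hv0U]
      exact ⟨Or.inl (commutatorElement_self _), Or.inr rfl⟩
    · rw [hred d hd _ hv0U _ hu0U, hred d hd _ hv0U _ hv0U]
      exact ⟨Or.inr hvu, Or.inl (commutatorElement_self _)⟩
    · rw [hred d hd _ (U.mul_mem hu0U hv0U) _ hu0U, hred d hd _ (U.mul_mem hu0U hv0U) _ hv0U,
        comm_mul_left', comm_mul_left', hvu, commutatorElement_self, commutatorElement_self, ← hcdef]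
      exact ⟨Or.inr (by rw [omega_comm hcW', mul_inv_cancel_right, mul_one]), Or.inr (by simp)⟩
  have hall : ∀ y ∈ U, ∀ z ∈ U, ⁅z, y⁆ = 1 ∨ ⁅z, y⁆ = c := by
    intro y hy z hz
    obtain ⟨h1, h2⟩ := hbase y hy
    have hswap : ∀ w ∈ U, ⁅w, y⁆ = ⁅y, w⁆ := fun w hw => by
      rw [← commutatorElement_inv, inv_eq_of_mul_eq_one_right (hcW w hw y hy).2]
    obtain ⟨d, hd, rfl | rfl | rfl | rfl⟩ := hdec z hz
    · exact Or.inl (by rw [← commutatorElement_inv, hcu y hy.1 _ hd, inv_one])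
    · rw [hred d hd _ hu0U _ hy, hswap _ hu0U]; exact h1
    · rw [hred d hd _ hv0U _ hy, hswap _ hv0U]; exact h2
    · rw [hred d hd _ (U.mul_mem hu0U hv0U) _ hy, comm_mul_left', omega_comm (hcW _ hy _ hv0U),
        mul_inv_cancel_right, hswap _ hu0U, hswap _ hv0U]
      rcases h1 with e | e <;> rcases h2 with e' | e' <;> simp [e, e', hcc]
  have hc1 : c = 1 := hfree c hcW' fun ψ hψ => by
    rcases hall _ (hUinv ψ hψ _ hv0U) _ (hUinv ψ hψ _ hu0U) with h | h <;>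
      rw [← map_commutatorElement, ← hcdef] at h
    · rw [h, ψ.injective (h.trans (map_one ψ).symm)]
    · exact h
  refine hu0D (T.max U inferInstance (fun a ha b hb => ?_) hUinv hDU hu0U)
  rw [← commutatorElement_eq_one_iff_mul_comm]
  rcases hall b hb a ha with h | h
  · exact h
  · rw [h, hc1]

end

end Cfsg.Agent.OddAutTwo
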